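import Cfsg.Agent.Base

/-!
# General counting lemmas used in the first case of Suzuki's theorem
-/

set_option autoImplicit false
set_option linter.unusedSectionVars false
set_option linter.style.haveILetI false

namespace CL.RankOneB

open MulAction

variable {G : Type*} [Group G]

theorem mem_cent {x g : G} : g ∈ Subgroup.centralizer ({x} : Set G) ↔ Commute g x :=
  Subgroup.mem_centralizer_singleton_iff

theorem conj_eq_iff_commute {g y : G} : g * y * g⁻¹ = y ↔ Commute g y :=
  mul_inv_eq_iff_eq_mul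

/-- A non-trivial element of a group of prime order generates it. -/
theorem exists_pow_eq_of_mem_zpowers {x y : G} {p : ℕ} (hp : p.Prime) (hx : orderOf x = p)
    (hy : y ∈ Subgroup.zpowers x) (hy1 : y ≠ 1) : ∃ k : ℕ, y ^ k = x := by
  haveI := Fact.mk hp
  have hc : Nat.card (Subgroup.zpowers x) = p := by rw [Nat.card_zpowers, hx]
  haveI : Finite (Subgroup.zpowers x) := Nat.finite_of_card_ne_zero (by rw [hc]; exact hp.ne_zero)
  have h := mem_powers_of_prime_card hc (g := (⟨y, hy⟩ : Subgroup.zpowers x))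
    (g' := ⟨x, Subgroup.mem_zpowers x⟩) (fun h => hy1 (congrArg Subtype.val h))
  obtain ⟨k, hk⟩ := h
  exact ⟨k, congrArg Subtype.val hk⟩

theorem card_eq_mul_of_decomp {A B X : Subgroup G} (hA : A ≤ X) (hB : B ≤ X) (hAB : A ⊓ B = ⊥)
    (h : ∀ g ∈ X, ∃ a ∈ A, ∃ b ∈ B, g = a * b) : Nat.card X = Nat.card A * Nat.card B := by
  rw [← Nat.card_prod]
  symm
  refine Nat.card_congr (Equiv.ofBijective (fun p : A × B =>
    (⟨(p.1 : G) * p.2, X.mul_mem (hA p.1.2) (hB p.2.2)⟩ : X)) ⟨?_, ?_⟩)
  · rintro ⟨a, b⟩ ⟨a', b'⟩ e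
    have e' : (a : G) * b = a' * b' := congrArg Subtype.val e
    have h1 : (a' : G)⁻¹ * a = b' * (b : G)⁻¹ := by
      rw [inv_mul_eq_iff_eq_mul, ← mul_assoc, ← e', mul_inv_cancel_right]
    have h2 : (a' : G)⁻¹ * a ∈ A ⊓ B :=
      ⟨A.mul_mem (A.inv_mem a'.2) a.2, h1 ▸ B.mul_mem b'.2 (B.inv_mem b.2)⟩
    rw [hAB, Subgroup.mem_bot, inv_mul_eq_one] at h2
    rw [h2] at e'
    exact Prod.ext (Subtype.ext h2.symm) (Subtype.ext (mul_left_cancel e'))
  · intro g
    obtain ⟨a, ha, b, hb, e⟩ := h g g.2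
    exact ⟨(⟨a, ha⟩, ⟨b, hb⟩), Subtype.ext e.symm⟩

variable [Finite G]

theorem mem_normalizer_of_conj {X : Subgroup G} {y : G} (h : ∀ g ∈ X, y * g * y⁻¹ ∈ X) :
    y ∈ Subgroup.normalizer (X : Set G) :=
  Subgroup.mem_normalizer_fintype h

theorem conj_mem_of_mem_normalizer {X : Subgroup G} {y g : G}
    (h : y ∈ Subgroup.normalizer (X : Set G)) (hg : g ∈ X) : y * g * y⁻¹ ∈ X :=
  (Subgroup.mem_normalizer_iff.mp h g).mp hg

theorem conj_mem_of_mem_normalizer' {X : Subgroup G} {y g : G}
    (h : y ∈ Subgroup.normalizer (X : Set G)) (hg : g ∈ X) : y⁻¹ * g * y ∈ X := by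
  have := conj_mem_of_mem_normalizer (inv_mem h) hg
  rwa [inv_inv] at this

/-- Fixed points of a `p`-element on a subgroup it normalises. -/
theorem card_modEq_inf_cent {p k : ℕ} (hp : p.Prime) {X : Subgroup G} {y : G} (hy : y ^ p ^ k = 1)
    (h : ∀ g ∈ X, y * g * y⁻¹ ∈ X) :
    Nat.card X ≡ Nat.card ↥(X ⊓ Subgroup.centralizer {y}) [MOD p] := by
  haveI := Fact.mk hp
  have hn := mem_normalizer_of_conj h
  have hle : Subgroup.zpowers y ≤ Subgroup.normalizer (X : Set G) := by
    rw [Subgroup.zpowers_le]; exact hn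
  letI : MulAction (Subgroup.zpowers y) X :=
    MulAction.compHom X (X.normalizerMonoidHom.comp (Subgroup.inclusion hle))
  have hsm : ∀ (g : Subgroup.zpowers y) (u : X), ((g • u : X) : G) = g * u * (g : G)⁻¹ :=
    fun g u => rfl
  have hP : IsPGroup p (Subgroup.zpowers y) := by
    rintro ⟨g, n, rfl⟩
    refine ⟨k, Subtype.ext ?_⟩
    show (y ^ n) ^ p ^ k = 1
    rw [← zpow_natCast, ← zpow_mul, mul_comm, zpow_mul, zpow_natCast, hy, one_zpow]
  have h1 := hP.card_modEq_card_fixedPoints X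
  refine h1.trans (Nat.ModEq.symm ?_)
  have : Nat.card ↥(X ⊓ Subgroup.centralizer {y}) =
      Nat.card (fixedPoints (Subgroup.zpowers y) X) := by
    refine Nat.card_congr ⟨fun g => ⟨⟨g, g.2.1⟩, fun n => Subtype.ext ?_⟩,
      fun u => ⟨u.1, u.1.2, ?_⟩, fun g => rfl, fun u => rfl⟩
    · rw [hsm]
      obtain ⟨_, n, rfl⟩ := n
      exact conj_eq_iff_commute.mpr ((mem_cent.mp g.2.2).symm.zpow_left n)
    · have := congrArg Subtype.val (u.2 ⟨y, Subgroup.mem_zpowers y⟩)
      rw [hsm] at this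
      exact mem_cent.mpr (conj_eq_iff_commute.mp this).symm
  rw [this]

/-- A group acting fixed-point-freely by conjugation. -/
theorem card_modEq_one_of_fpf {A X : Subgroup G} (h : ∀ k ∈ A, ∀ g ∈ X, k * g * k⁻¹ ∈ X)
    (hf : ∀ k ∈ A, ∀ g ∈ X, Commute k g → k = 1 ∨ g = 1) :
    Nat.card X ≡ 1 [MOD Nat.card A] := by
  letI : MulAction A G := MulAction.compHom G (MulAut.conj.comp A.subtype)
  let T : SubMulAction A G :=
    { carrier := {g | g ∈ X ∧ g ≠ 1}
      smul_mem' := fun k g hg => ⟨h k k.2 g hg.1, fun e => hg.2 (by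
        have e' : (k : G) * g * (k : G)⁻¹ = 1 := e
        simpa [mul_inv_eq_one] using e')⟩ }
  have hfree : ∀ c : T, stabilizer A c = ⊥ := by
    intro c
    rw [eq_bot_iff]
    intro k hk
    have e : (k : G) * c * (k : G)⁻¹ = c := congrArg Subtype.val hk
    exact Subtype.ext ((hf k k.2 c c.2.1 (conj_eq_iff_commute.mp e)).resolve_right c.2.2)
  have e := selfEquivOrbitsQuotientProd (G := A) (X := T) hfree
  have h1 : Nat.card X = Nat.card T + 1 := by
    rw [← Finite.card_option]
    classical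
    refine Nat.card_congr ((Equiv.optionSubtypeNe (1 : X)).symm.trans (Equiv.optionCongr
      ⟨fun g => ⟨g.1, g.1.2, fun h => g.2 (Subtype.ext h)⟩,
        fun g => ⟨⟨g, g.2.1⟩, fun h => g.2.2 (congrArg Subtype.val h)⟩, fun _ => rfl,
        fun _ => rfl⟩))
  rw [h1, Nat.card_congr e, Nat.card_prod]
  exact (Nat.modEq_iff_dvd' (Nat.le_add_left _ _)).mpr (by simp) |>.symm

/-- A `p`-subgroup which is not a Sylow subgroup has index `p` in a subgroup normalising it. -/
theorem exists_succ_normalizing {p n : ℕ} (hp : p.Prime) {U : Subgroup G}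
    (hU : Nat.card U = p ^ n) (hd : p ^ (n + 1) ∣ Nat.card G) :
    ∃ U' : Subgroup G, U ≤ U' ∧ Nat.card U' = p ^ (n + 1) ∧
      U' ≤ Subgroup.normalizer (U : Set G) := by
  haveI := Fact.mk hp
  obtain ⟨U', hc, hle⟩ := Sylow.exists_subgroup_card_pow_succ hd hU
  refine ⟨U', hle, hc, ?_⟩
  have hidx : (U.subgroupOf U').index = p := by
    have h1 := (U.subgroupOf U').card_mul_index
    rw [Nat.card_congr (Subgroup.subgroupOfEquivOfLe hle).toEquiv, hU, hc, pow_succ] at h1
    exact Nat.eq_of_mul_eq_mul_left (pow_pos hp.pos n) h1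
  have hn : (U.subgroupOf U').Normal := by
    apply Subgroup.normal_of_index_eq_minFac_card
    rw [hidx, hc, Nat.pow_minFac (Nat.succ_ne_zero n), hp.minFac_eq]
  exact (Subgroup.normal_subgroupOf_iff_le_normalizer hle).mp hn

/-- An element of order `p` acting on an elementary abelian `p`-group has many fixed points. -/
theorem card_le_pow_card_inf_cent {p : ℕ} (hp : p.Prime) {T : Subgroup G} {w : G}
    (hcomm : ∀ a ∈ T, ∀ b ∈ T, Commute a b) (hexp : ∀ a ∈ T, a ^ p = 1) (hw : w ^ p = 1)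
    (h : ∀ g ∈ T, w * g * w⁻¹ ∈ T) :
    Nat.card T ≤ Nat.card ↥(T ⊓ Subgroup.centralizer {w}) ^ p := by
  haveI := Fact.mk hp
  letI : CommGroup T :=
    { (inferInstance : Group T) with mul_comm := fun a b => Subtype.ext (hcomm a a.2 b b.2).eq }
  let φ : MulAut T := T.normalizerMonoidHom ⟨w, mem_normalizer_of_conj h⟩
  have hφp : φ ^ p = 1 := by
    rw [← map_pow]
    have : (⟨w, mem_normalizer_of_conj h⟩ : Subgroup.normalizer (T : Set G)) ^ p = 1 :=
      Subtype.ext hw
    rw [this, map_one]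
  let f : AddMonoid.End (Additive T) := MonoidHom.toAdditive φ.toMonoidHom
  have hfk : ∀ (k : ℕ) (a : Additive T), (f ^ k) a = Additive.ofMul ((φ ^ k) a.toMul) := by
    intro k
    induction k with
    | zero => intro a; rfl
    | succ k ih => intro a; rw [pow_succ, pow_succ]; exact ih (f a)
  have hfp : f ^ p = 1 := by
    ext a
    rw [hfk, hφp]; rfl
  have hp0 : (p : AddMonoid.End (Additive T)) = 0 := by
    ext a
    rw [AddMonoid.End.natCast_apply]
    exact hexp _ a.toMul.2
  have hδ : (f - 1) ^ p = 0 := by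
    obtain ⟨r, hr⟩ := Commute.exists_add_pow_prime_eq hp (Commute.one_right (f - 1))
    rw [sub_add_cancel, hfp, one_pow, hp0] at hr
    simpa using hr.symm
  set δ := f - 1 with hδdef
  have hker : Nat.card (δ : Additive T →+ Additive T).ker =
      Nat.card ↥(T ⊓ Subgroup.centralizer {w}) := by
    have key : ∀ a : Additive T, δ a = 0 ↔ Commute (a.toMul : G) w := by
      intro a
      rw [show δ a = f a - a from rfl, sub_eq_zero, Commute.symm_iff, ← conj_eq_iff_commute]
      exact ⟨fun h => congrArg (fun b : Additive T => (b.toMul : G)) h,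
        fun h => congrArg Additive.ofMul (Subtype.ext h)⟩
    exact Nat.card_congr ⟨fun a => ⟨a.1.toMul, a.1.toMul.2, mem_cent.mpr ((key _).mp a.2)⟩,
      fun g => ⟨Additive.ofMul ⟨g, g.2.1⟩, (key _).mpr (mem_cent.mp g.2.2)⟩,
      fun a => rfl, fun g => rfl⟩
  rw [← hker]
  have step : ∀ k : ℕ, Nat.card ((δ ^ k : AddMonoid.End (Additive T)) :
      Additive T →+ Additive T).ker ≤ Nat.card (δ : Additive T →+ Additive T).ker ^ k := by
    intro k
    induction k with
    | zero =>
      rw [pow_zero, pow_zero]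
      have : ((1 : AddMonoid.End (Additive T)) : Additive T →+ Additive T).ker = ⊥ := by
        rw [eq_bot_iff]; intro a ha; exact ha
      rw [this, AddSubgroup.card_bot]
    | succ k ih =>
      set A := ((δ ^ (k + 1) : AddMonoid.End (Additive T)) : Additive T →+ Additive T).ker
      let ψ : A →+ ((δ ^ k : AddMonoid.End (Additive T)) : Additive T →+ Additive T).ker :=
        AddMonoidHom.codRestrict ((δ : Additive T →+ Additive T).comp A.subtype) _ (fun a => by
          have : (δ ^ (k + 1)) a.1 = 0 := a.2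
          rw [pow_succ] at this
          exact this)
      have h1 : Nat.card A = Nat.card ψ.ker * Nat.card ψ.range := by
        rw [← ψ.ker.card_mul_index, AddSubgroup.index_ker]
      have h2 : Nat.card ψ.ker ≤ Nat.card (δ : Additive T →+ Additive T).ker :=
        Nat.card_le_card_of_injective (fun a : ψ.ker => (⟨a.1.1, congrArg Subtype.val a.2⟩ :
          (δ : Additive T →+ Additive T).ker))
          (fun a b e => Subtype.ext (Subtype.ext (Subtype.mk.inj e)))
      have h3 := Nat.card_le_card_of_injective _ ψ.range.subtype_injective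
      rw [h1, pow_succ']
      exact Nat.mul_le_mul h2 (h3.trans ih)
  have h4 := step p
  rw [hδ] at h4
  have : ((0 : AddMonoid.End (Additive T)) : Additive T →+ Additive T).ker = ⊤ := by
    rw [eq_top_iff]; intro a _; rfl
  rw [this, AddSubgroup.card_top] at h4
  exact h4

/-- An automorphism of prime order `p` of a finite field fixing only `0` and `1`. -/
theorem card_field_eq_two_pow {F : Type*} [Field F] [Finite F] {p : ℕ} (α : F ≃+* F)
    (ho : orderOf α = p) (hfix : ∀ y, α y = y → y = 0 ∨ y = 1) : Nat.card F = 2 ^ p := by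
  classical
  haveI : Finite (F ≃+* F) :=
    Finite.of_injective (fun σ : F ≃+* F => (σ : F → F)) DFunLike.coe_injective
  letI : Fintype (Subgroup.zpowers α) := Fintype.ofFinite _
  have h1 := FixedPoints.finrank_eq_card (Subgroup.zpowers α) F
  rw [← Nat.card_eq_fintype_card, Nat.card_zpowers, ho] at h1
  have h2 : Nat.card (FixedPoints.subfield (Subgroup.zpowers α) F) = 2 := by
    rw [Nat.card_eq_two_iff]
    refine ⟨0, 1, zero_ne_one, Set.eq_univ_of_forall fun y => ?_⟩
    rcases hfix y (y.2 ⟨α, Subgroup.mem_zpowers α⟩) with h | h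
    · exact Or.inl (Subtype.ext h)
    · exact Or.inr (Subtype.ext h)
  rw [Module.natCard_eq_pow_finrank (K := FixedPoints.subfield (Subgroup.zpowers α) F), h1, h2]

/-- The `p`-part of `g ^ p + 1` when `g + 1` is a power of the odd prime `p`. -/
theorem exists_pow_add_one_eq {p g m : ℕ} (hp : p.Prime) (hodd : Odd p) (hm : m ≠ 0)
    (h : g + 1 = p ^ m) : ∃ e, g ^ p + 1 = p ^ (m + 1) * e ∧ ¬ p ∣ e := by
  haveI := Fact.mk hp
  have hd : p ∣ g + 1 := by rw [h]; exact dvd_pow_self p hm
  have hg : ¬ p ∣ g := fun hg => hp.one_lt.ne' (Nat.dvd_one.mp ((Nat.dvd_add_right hg).mp hd))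
  have h1 := padicValNat.pow_add_pow hodd hd hg hodd
  rw [one_pow, h, padicValNat.prime_pow, padicValNat_self] at h1
  have h2 : p ^ (m + 1) ∣ g ^ p + 1 := by rw [← h1]; exact pow_padicValNat_dvd
  obtain ⟨e, he⟩ := h2
  refine ⟨e, he, fun hpe => ?_⟩
  have h3 : p ^ (m + 1 + 1) ∣ g ^ p + 1 := by
    rw [he, pow_succ p (m + 1)]; exact Nat.mul_dvd_mul_left _ hpe
  rw [← h1] at h3
  exact pow_succ_padicValNat_not_dvd (Nat.succ_ne_zero _) h3

end CL.RankOneB
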