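import Cfsg.Agent.Base
import Cfsg.Agent.RankOneB.Gen
import Cfsg.Agent.RankOne.Concl
import Cfsg.Agent.RankOne.Field
import Cfsg.Agent.S1129
import Cfsg.Agent.S1241
import Cfsg.Agent.S1545

/-!
# The first case of Suzuki's theorem: the set-up

`x` is an element of prime order `p` of `V` whose centraliser has `2`-rank one.
-/

set_option autoImplicit false
set_option linter.unusedSectionVars false
set_option linter.style.haveILetI false

namespace CL.RankOneB

open Cfsg MulAction CL.RankOne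

variable {G Ω : Type*} [Group G] [MulAction G Ω]

/-- The centraliser of an element. -/
abbrev CC (x : G) : Subgroup G := Subgroup.centralizer {x}

/-- The cyclic group generated by an element. -/
abbrev PP (x : G) : Subgroup G := Subgroup.zpowers x

/-- The hypotheses of the first case. -/
structure Hyp (a : Ω) (t : G) (Q : Subgroup G) (s r x : G) (p : ℕ) : Prop where
  setup : IsRankOneSetup G Ω a t Q
  s_mem : s ∈ II G a
  r_mem : r ∈ Q
  struct : t * s * t = r⁻¹ * t * r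
  x_mem : x ∈ VV a t
  prime : p.Prime
  ord : orderOf x = p
  two_lt : 2 < Nat.card (Q0 G a)
  rank1 : ∀ u ∈ Q0 G a, Commute u x → u = 1 ∨ u = s
  perfect : commutator G = ⊤
  solv : ∀ N : Subgroup G, Odd (Nat.card N) → Group.IsSolvable N

variable {a : Ω} {t : G} {Q : Subgroup G} {s r x : G} {p : ℕ}

theorem commute_of_mem_PP {g y : G} (hg : Commute g x) (hy : y ∈ PP x) : Commute g y := by
  obtain ⟨n, rfl⟩ := hy
  exact hg.zpow_right n

theorem PP_le_CC : PP x ≤ CC x := fun _ hy =>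
  mem_cent.mpr (commute_of_mem_PP (Commute.refl x) hy).symm

theorem conj_mem_WW (hS : IsRankOneSetup G Ω a t Q) [Finite G] {d w : G} (hd : d ∈ DD a t)
    (hw : w ∈ WW a t) : d * w * d⁻¹ ∈ WW a t := by
  rw [mem_WW_iff hS] at hw ⊢
  refine ⟨mul_mem (mul_mem hd hw.1) (inv_mem hd), fun u hu => ?_⟩
  have h1 := hw.2 _ (conj_mem_II' hu hd.1)
  have : u = d * (d⁻¹ * u * d) * d⁻¹ := by group
  rw [this]
  exact h1.conj d

theorem commute_of_mem_WW (hS : IsRankOneSetup G Ω a t Q) [Finite G] {u w : G}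
    (hu : u ∈ Q0 G a) (hw : w ∈ WW a t) : Commute u w := by
  by_cases h : u = 1
  · rw [h]; exact Commute.one_left w
  · exact ((mem_WW_iff hS).mp hw).2 u (mem_II_of_mem_Q0 hS hu h)

namespace Hyp

variable (h : Hyp a t Q s r x p) [Finite G]
include h

theorem solvD : Group.IsSolvable (DD a t) := h.solv _ h.setup.odd_card

theorem x_pow : x ^ p = 1 := by rw [← h.ord]; exact pow_orderOf_eq_one x

theorem x_ne_one : x ≠ 1 := by
  intro e
  have := h.ord
  rw [e, orderOf_one] at this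
  exact h.prime.one_lt.ne this

theorem x_mem_DD : x ∈ DD a t := h.x_mem.1

theorem odd_p : Odd p := by rw [← h.ord]; exact odd_orderOf_of_mem_DD h.setup h.x_mem_DD

theorem card_PP : Nat.card (PP x) = p := by rw [Nat.card_zpowers, h.ord]

theorem PP_le_VV : PP x ≤ VV a t := by rw [Subgroup.zpowers_le]; exact h.x_mem

theorem PP_le_DD : PP x ≤ DD a t := h.PP_le_VV.trans VV_le_DD

theorem pow_of_mem_PP {y : G} (hy : y ∈ PP x) : y ^ p = 1 := by
  obtain ⟨n, rfl⟩ := hy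
  show (x ^ n) ^ p = 1
  rw [← zpow_natCast, ← zpow_mul, mul_comm, zpow_mul, zpow_natCast, h.x_pow, one_zpow]

theorem ss : s * s = 1 := h.s_mem.2.2

theorem s_ne_one : s ≠ 1 := h.s_mem.2.1

theorem sa : s • a = a := h.s_mem.1

theorem s_inv : s⁻¹ = s := inv_eq_of_mul_self h.ss

theorem s_mem_Q : s ∈ Q := mem_Q_of_mem_II h.setup h.s_mem

theorem commute_V_s {v : G} (hv : v ∈ VV a t) : Commute v s :=
  (commute_of_mem_VV h.setup h.s_mem h.r_mem h.struct hv).1

theorem commute_V_r {v : G} (hv : v ∈ VV a t) : Commute v r :=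
  (commute_of_mem_VV h.setup h.s_mem h.r_mem h.struct hv).2

theorem commute_V_z {v : G} (hv : v ∈ VV a t) : Commute v (s * t) :=
  (h.commute_V_s hv).mul_right (mem_VV.mp hv).2

theorem s_mem_CC : s ∈ CC x := mem_cent.mpr (h.commute_V_s h.x_mem).symm

theorem t_mem_CC : t ∈ CC x := mem_cent.mpr (mem_VV.mp h.x_mem).2.symm

theorem z_mem_CC : s * t ∈ CC x := mul_mem h.s_mem_CC h.t_mem_CC

theorem exists_pow_eq {y : G} (hy : y ∈ PP x) (hy1 : y ≠ 1) : ∃ k : ℕ, y ^ k = x :=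
  exists_pow_eq_of_mem_zpowers h.prime h.ord hy hy1

theorem commute_x_of_commute {g y : G} (hy : y ∈ PP x) (hy1 : y ≠ 1) (hg : Commute g y) :
    Commute g x := by
  obtain ⟨k, hk⟩ := h.exists_pow_eq hy hy1
  rw [← hk]; exact hg.pow_right k

theorem eq_one_of_mem_PP_of_mul_self {y : G} (hy : y ∈ PP x) (e : y * y = 1) : y = 1 :=
  eq_one_of_mem_DD_of_mul_self h.setup (h.PP_le_DD hy) e

theorem two_rank :
    ∃ x y : G, x ≠ 1 ∧ y ≠ 1 ∧ x ≠ y ∧ x * x = 1 ∧ y * y = 1 ∧ x * y = y * x :=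
  (two_lt_card_Q0_iff h.setup).mp h.two_lt

theorem x_not_mem_WW : x ∉ WW a t := by
  intro hx
  obtain ⟨u, hu, v, hv, huv⟩ := exists_two_II h.setup h.two_rank
  have key : ∀ u ∈ II G a, u = s := fun u hu =>
    (h.rank1 u (mem_Q0_of_mem_II hu) (((mem_WW_iff h.setup).mp hx).2 u hu)).resolve_left hu.2.1
  exact huv ((key u hu).trans (key v hv).symm)

theorem eq_one_of_mem_WW_of_mem_PP {y : G} (hW : y ∈ WW a t) (hy : y ∈ PP x) : y = 1 := by
  by_contra hy1
  obtain ⟨k, hk⟩ := h.exists_pow_eq hy hy1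
  exact h.x_not_mem_WW (hk ▸ pow_mem hW k)

/-- An element of `C_H(x)` centralises `s`. -/
theorem commute_s_of_fix {c : G} (hc : c ∈ CC x) (hca : c • a = a) : Commute c s := by
  have h1 := conj_mem_II h.s_mem hca
  have h2 : c * s * c⁻¹ ∈ CC x := mul_mem (mul_mem hc h.s_mem_CC) (inv_mem hc)
  exact conj_eq_iff_commute.mp
    ((h.rank1 _ (mem_Q0_of_mem_II h1) (mem_cent.mp h2)).resolve_left h1.2.1)

theorem eq_one_of_mem_KK {k : G} (hk : k ∈ KK a t) (hc : k ∈ CC x) : k = 1 :=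
  eq_one_of_mem_KK_of_commute h.setup h.s_mem hk (h.commute_s_of_fix hc hk.1.1)

theorem mem_VV_of_mem_CC {d : G} (hd : d ∈ DD a t) (hc : d ∈ CC x) : d ∈ VV a t :=
  (mem_VV_iff h.setup h.s_mem h.r_mem h.struct).mpr ⟨hd, h.commute_s_of_fix hc hd.1⟩

theorem field_facts : Nat.card (Q0 G a) = 2 ^ p ∧
    ∀ v ∈ VV a t, ∃ w ∈ WW a t, ∃ y ∈ PP x, v = w * y := by
  haveI := h.solvD
  haveI := Fact.mk h.prime
  have hS := h.setup
  obtain ⟨n, hn, hcard, ⟨Φ⟩⟩ := exists_fieldData hS h.s_mem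
  letI : Fintype (GaloisField 2 n) := Fintype.ofFinite _
  have h1 := fun v : VV a t => Φ.exists_aut hS v.2.1 (h.commute_V_s v.2)
  choose α hα _ using h1
  let ψ : VV a t →* (GaloisField 2 n ≃+* GaloisField 2 n) := MonoidHom.mk' α (fun v w => by
    ext x
    apply Φ.σ_inj
    rw [← hα, RingAut.mul_apply, ← hα, ← hα, Subgroup.coe_mul]; group)
  have hker : ∀ v : VV a t, ψ v = 1 → (v : G) ∈ WW a t := by
    intro v hv
    refine (mem_WW_iff hS).mpr ⟨v.2.1, fun y hy => ?_⟩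
    obtain ⟨x, rfl⟩ := (Φ.mem_Q0 y).mp (mem_Q0_of_mem_II hy)
    have h4 := hα v x
    have h5 : α v = 1 := hv
    rw [h5] at h4
    exact (mul_inv_eq_iff_eq_mul.mp h4).symm
  set x' : VV a t := ⟨x, h.x_mem⟩ with hx'
  have hne : ψ x' ≠ 1 := fun e => h.x_not_mem_WW (hker _ e)
  have ho : orderOf (ψ x') = p := by
    refine orderOf_eq_prime ?_ hne
    rw [← map_pow, show x' ^ p = 1 from Subtype.ext h.x_pow, map_one]
  have hF : Nat.card (GaloisField 2 n) = 2 ^ p := by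
    apply card_field_eq_two_pow _ ho
    intro y hy
    have h4 := hα x' y
    have h5 : α x' y = y := hy
    rw [h5] at h4
    rcases h.rank1 _ (Φ.σ_mem y) (conj_eq_iff_commute.mp h4).symm with e | e
    · exact Or.inl (Φ.σ_eq_one_iff.mp e)
    · exact Or.inr (Φ.σ_inj (e.trans Φ.σ_one.symm))
  refine ⟨by rw [← Φ.card_eq, hF], fun v hv => ?_⟩
  have hA : Nat.card (GaloisField 2 n ≃+* GaloisField 2 n) = p := by
    have := CL.Suz2.two_pow_card_aut (F := GaloisField 2 n)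
    rw [← Nat.card_eq_fintype_card, hF] at this
    exact Nat.pow_right_injective (le_refl 2) this
  obtain ⟨i, hi⟩ := mem_powers_of_prime_card hA (g' := ψ ⟨v, hv⟩) hne
  refine ⟨v * (x ^ i)⁻¹, hker (⟨v, hv⟩ * (x' ^ i)⁻¹) ?_, x ^ i,
    pow_mem (Subgroup.mem_zpowers x) i, by group⟩
  rw [map_mul, map_inv, map_pow, ← hi, mul_inv_cancel]

theorem card_Q0_eq : Nat.card (Q0 G a) = 2 ^ p := h.field_facts.1

theorem exists_W_mul_P {v : G} (hv : v ∈ VV a t) : ∃ w ∈ WW a t, ∃ y ∈ PP x, v = w * y :=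
  h.field_facts.2 v hv

theorem WW_inf_PP : WW a t ⊓ PP x = ⊥ :=
  eq_bot_iff.mpr fun _ hy => h.eq_one_of_mem_WW_of_mem_PP hy.1 hy.2

theorem card_VV : Nat.card (VV a t) = Nat.card (WW a t) * p := by
  rw [← h.card_PP]
  exact card_eq_mul_of_decomp WW_le_VV h.PP_le_VV h.WW_inf_PP fun _ => h.exists_W_mul_P

theorem card_KS_add_one : Nat.card (KS a t) + 1 = 2 ^ p := by
  haveI := h.solvD
  rw [card_KS h.setup, h.card_Q0_eq]

theorem card_DD_eq : Nat.card (DD a t) = Nat.card (WW a t) * p * Nat.card (KS a t) := by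
  haveI := h.solvD
  rw [card_DD h.setup, h.card_VV, ← coe_KS h.setup]; rfl

/-- `N_G(P) = C_G(P)`. -/
theorem commute_of_conj_mem_PP {g : G} (hg : g * x * g⁻¹ ∈ PP x) : Commute g x := by
  obtain ⟨v, hv, e⟩ := exists_V_conj h.setup (X := {x}) (by simpa using h.x_mem) (g := g)
    (by simpa using h.PP_le_VV hg)
  have e1 := e x rfl
  obtain ⟨w, hw, y, hy, rfl⟩ := h.exists_W_mul_P hv
  have e2 : w * x * w⁻¹ = g * x * g⁻¹ := by
    rw [← e1, mul_assoc w y x, (mem_cent.mp (PP_le_CC hy)).eq]; group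
  have h1 : w * x * w⁻¹ * x⁻¹ = 1 := by
    apply h.eq_one_of_mem_WW_of_mem_PP
    · have : w * x * w⁻¹ * x⁻¹ = w * (x * w⁻¹ * x⁻¹) := by group
      rw [this]
      exact mul_mem hw (conj_mem_WW h.setup h.x_mem_DD (inv_mem hw))
    · rw [e2]; exact mul_mem hg (inv_mem (Subgroup.mem_zpowers x))
  rw [e2, mul_inv_eq_one] at h1
  exact conj_eq_iff_commute.mp h1

theorem commute_of_conj_mem_PP' {g y : G} (hy : y ∈ PP x) (hy1 : y ≠ 1)
    (hg : g * y * g⁻¹ ∈ PP x) : Commute g x := by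
  obtain ⟨k, hk⟩ := h.exists_pow_eq hy hy1
  apply h.commute_of_conj_mem_PP
  rw [← hk, ← conj_pow, hk]
  exact pow_mem hg k

/-- `C_G(x)` is transitive on the fixed points of `x`. -/
theorem exists_cent_smul {b : Ω} (hb : x • b = b) : ∃ c ∈ CC x, c • a = b :=
  cent_trans h.setup (VV_fixes_three h.setup (X := {x}) (by simpa using h.x_mem))
    (by simpa using h.x_mem_DD.1) (by simpa using hb)

theorem exists_Gam_smul {b c : Ω} (hb : b ≠ a) (hc : c ≠ a) (hxb : x • b = b) (hxc : x • c = c) :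
    ∃ q ∈ Q ⊓ CC x, q • b = c := by
  obtain ⟨q, h1, h2, h3⟩ := exists_cent_Q_smul_eq h.setup (X := {x}) (by simpa using h.x_mem_DD.1)
    hb hc (by simpa using hxb) (by simpa using hxc)
  exact ⟨q, ⟨h1, h2⟩, h3⟩

/-- The transfer to `H / Q K W` shows that `p` divides the degree. -/
theorem dvd_card_Q_add_one : p ∣ Nat.card Q + 1 := by
  haveI := h.solvD
  haveI := Fact.mk h.prime
  have hS := h.setup
  by_contra hnd
  let M : Subgroup G :=
    { carrier := {g | g • a = a ∧ ∃ k ∈ KK a t, ∀ u ∈ II G a, g * u * g⁻¹ = k * u * k⁻¹}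
      one_mem' := ⟨one_smul _ _, 1, one_mem_invertedBy, fun _ _ => rfl⟩
      mul_mem' := by
        rintro g g' ⟨hg, k, hk, e⟩ ⟨hg', k', hk', e'⟩
        refine ⟨by rw [mul_smul, hg', hg], k * k', mul_mem_KK hS hk hk', fun u hu => ?_⟩
        calc g * g' * u * (g * g')⁻¹ = g * (g' * u * g'⁻¹) * g⁻¹ := by group
          _ = k * (k' * u * k'⁻¹) * k⁻¹ := by rw [e' u hu, e _ (conj_mem_II hu hk'.1.1)]
          _ = _ := by group
      inv_mem' := by
        rintro g ⟨hg, k, hk, e⟩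
        refine ⟨(stabilizer G a).inv_mem hg, k⁻¹, inv_mem_invertedBy hk, fun u hu => ?_⟩
        have := e _ (conj_mem_II' hu hk.1.1)
        calc g⁻¹ * u * g⁻¹⁻¹ = g⁻¹ * (k * (k⁻¹ * u * k) * k⁻¹) * g := by group
          _ = _ := by rw [← this]; group }
  have hMn : ∀ g : G, g • a = a → ∀ m ∈ M, g * m * g⁻¹ ∈ M := by
    rintro g hg m ⟨hm, k, hk, e⟩
    obtain ⟨q, hq, d, hd, rfl⟩ := decomp hS hg
    refine ⟨(stabilizer G a).mul_mem ((stabilizer G a).mul_mem hg hm) ((stabilizer G a).inv_mem hg),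
      d * k * d⁻¹, conj_mem_KK_of_mem_DD hS hk hd,
      fun u hu => ?_⟩
    have hQ : ∀ u ∈ II G a, q * u * q⁻¹ = u := fun u hu =>
      conj_eq_iff_commute.mpr (commute_of_mem_II hS hu hq).symm
    have hQ' : q⁻¹ * u * q = u := by
      rw [mul_assoc, (commute_of_mem_II hS hu hq).eq, inv_mul_cancel_left]
    have h1 := conj_mem_II' hu hd.1
    calc q * d * m * (q * d)⁻¹ * u * (q * d * m * (q * d)⁻¹)⁻¹
        = q * (d * (m * (d⁻¹ * (q⁻¹ * u * q) * d) * m⁻¹) * d⁻¹) * q⁻¹ := by group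
      _ = d * (k * (d⁻¹ * u * d) * k⁻¹) * d⁻¹ := by
        rw [hQ', e _ h1, hQ _ (conj_mem_II (conj_mem_II h1 hk.1.1) hd.1)]
      _ = _ := by group
  have hdec : ∀ g : G, g • a = a → ∃ m ∈ M, ∃ y ∈ PP x, g = m * y := by
    intro g hg
    obtain ⟨q, hq, d, hd, rfl⟩ := decomp hS hg
    obtain ⟨k, hk, v, hv, rfl⟩ := exists_K_mul_V hS hd
    obtain ⟨w, hw, y, hy, rfl⟩ := h.exists_W_mul_P hv
    refine ⟨q * k * w, mul_mem (mul_mem ?_ ?_) ?_, y, hy, by group⟩
    · exact ⟨smul_of_mem_Q hS hq, 1, one_mem_invertedBy, fun u hu => by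
        rw [conj_eq_iff_commute.mpr (commute_of_mem_II hS hu hq).symm]; group⟩
    · exact ⟨hk.1.1, k, hk, fun _ _ => rfl⟩
    · exact ⟨hw.1.1.1, 1, one_mem_invertedBy, fun u hu => by
        rw [conj_eq_iff_commute.mpr (((mem_WW_iff hS).mp hw).2 u hu).symm]; group⟩
  have hab : ∀ g ∈ stabilizer G a, ∀ g' ∈ stabilizer G a, g * g' * g⁻¹ * g'⁻¹ ∈ M := by
    intro g hg g' hg'
    obtain ⟨m, hm, y, hy, rfl⟩ := hdec g hg
    obtain ⟨m', hm', y', hy', rfl⟩ := hdec g' hg'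
    have hyy : y * y' = y' * y := (commute_of_mem_PP (mem_cent.mp (PP_le_CC hy)) hy').eq
    have : m * y * (m' * y') * (m * y)⁻¹ * (m' * y')⁻¹ =
        m * (y * m' * y⁻¹) * (y' * m⁻¹ * y'⁻¹) * m'⁻¹ := by
      calc m * y * (m' * y') * (m * y)⁻¹ * (m' * y')⁻¹
          = m * (y * m' * y⁻¹) * (y * y' * y⁻¹) * m⁻¹ * y'⁻¹ * m'⁻¹ := by group
        _ = _ := by rw [hyy]; group
    rw [this]
    exact mul_mem (mul_mem (mul_mem hm (hMn _ (h.PP_le_DD hy).1 _ hm'))
      (hMn _ (h.PP_le_DD hy').1 _ (inv_mem hm))) (inv_mem hm')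
  have hMle : M ≤ stabilizer G a := fun g hg => hg.1
  refine Cfsg.Agent.S1241.result (p := p) (stabilizer G a) M hMle
    ((Subgroup.normal_subgroupOf_iff_le_normalizer hMle).mpr
      fun g hg => mem_normalizer_of_conj (hMn g hg)) hab ?_ x h.x_mem_DD.1 ?_
    ⟨1, by rw [h.ord, pow_one]⟩ ?_ (by rw [h.perfect]; trivial)
  · rw [index_stabilizer_eq hS]
    exact (Nat.Prime.coprime_iff_not_dvd h.prime).mpr hnd
  · rintro ⟨-, k, hk, e⟩
    have h1 : k = 1 := by
      apply eq_one_of_mem_KK_of_commute hS h.s_mem hk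
      rw [← conj_eq_iff_commute, ← e s h.s_mem]
      exact conj_eq_iff_commute.mpr (h.commute_V_s h.x_mem)
    apply h.x_not_mem_WW
    refine (mem_WW_iff hS).mpr ⟨h.x_mem_DD, fun u hu => ?_⟩
    have := e u hu
    rw [h1, one_mul, inv_one, mul_one] at this
    exact (conj_eq_iff_commute.mp this).symm
  · intro m g hg
    have hy : x ^ m ∈ PP x := ⟨m, rfl⟩
    by_cases hy1 : x ^ m = 1
    · rw [hy1]; simp
    obtain ⟨k, hk⟩ := h.exists_pow_eq hy hy1
    have h1 : x • g⁻¹ • a = g⁻¹ • a := by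
      have h2 : (g * x ^ m * g⁻¹) ^ k ∈ stabilizer G a := pow_mem hg k
      rw [conj_pow, hk] at h2
      have h3 : (g * x * g⁻¹) • a = a := h2
      rw [mul_smul, mul_smul, smul_eq_iff_eq_inv_smul] at h3
      exact h3
    obtain ⟨c, hc, e⟩ := h.exists_cent_smul h1
    have h2 : (g * c) • a = a := by rw [mul_smul, e, smul_inv_smul]
    have h3 : g * x ^ m * g⁻¹ = (g * c) * x ^ m * (g * c)⁻¹ := by
      rw [mul_assoc g c, ((mem_cent.mp hc).zpow_right m).eq]; group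
    rw [h3]
    exact hab _ h2 _ (h.PP_le_DD hy).1

theorem dvd_card_Gam_add_one : p ∣ Nat.card ↥(Q ⊓ CC x) + 1 := by
  have h1 := card_modEq_inf_cent (k := 1) h.prime (X := Q) (y := x) (by rw [pow_one, h.x_pow])
    (fun g hg => conj_mem_Q h.setup h.x_mem_DD.1 hg)
  exact (Nat.modEq_zero_iff_dvd.mp ((h1.add_right 1).symm.trans
    (Nat.modEq_zero_iff_dvd.mpr h.dvd_card_Q_add_one)))

theorem not_dvd_card_Q : ¬ p ∣ Nat.card Q := fun hd =>
  h.prime.one_lt.ne' (Nat.dvd_one.mp ((Nat.dvd_add_right hd).mp h.dvd_card_Q_add_one))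

theorem card_modEq_one {X : Subgroup G} (hX : X ≤ Q) (hK : ∀ k ∈ KK a t, ∀ g ∈ X, k * g * k⁻¹ ∈ X) :
    Nat.card X ≡ 1 [MOD Nat.card (KS a t)] := by
  haveI := h.solvD
  apply card_modEq_one_of_fpf
  · exact fun k hk => hK k ((mem_KS h.setup).mp hk)
  · intro k hk g hg e
    by_cases hk1 : k = 1
    · exact Or.inl hk1
    · exact Or.inr (eq_one_of_commute_K h.setup ((mem_KS h.setup).mp hk) hk1 (hX hg) e)

variable [FaithfulSMul G Ω]

theorem nilpotent_Q : Group.IsNilpotent Q := Cfsg.Agent.S1129.result h.setup h.two_rank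

/-- The order of a `K P`-invariant subgroup of `Q`. -/
theorem card_eq_pow {X : Subgroup G} (hX : X ≤ Q) (hK : ∀ k ∈ KK a t, ∀ g ∈ X, k * g * k⁻¹ ∈ X)
    (hx : ∀ g ∈ X, x * g * x⁻¹ ∈ X) : Nat.card X = Nat.card ↥(X ⊓ CC x) ^ p := by
  haveI := h.solvD
  have hS := h.setup
  obtain ⟨k0, hk0, hk01⟩ := exists_K_ne_one hS h.two_rank
  have hKP : KS a t ⊓ PP x = ⊥ := eq_bot_iff.mpr fun k hk =>
    h.eq_one_of_mem_KK ((mem_KS hS).mp hk.1) (PP_le_CC hk.2)
  have hn : ∀ e ∈ PP x, ∀ u ∈ KS a t, e * u * e⁻¹ ∈ KS a t := fun e he u hu =>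
    mem_KS_of_mem_KK (conj_mem_KK_of_mem_DD hS ((mem_KS hS).mp hu) (h.PP_le_DD he))
  have hle : KS a t ⊔ PP x ≤ DD a t := sup_le KS_le_DD h.PP_le_DD
  have hcard : Nat.card ↥(KS a t ⊔ PP x) = Nat.card (KS a t) * p := by
    rw [← h.card_PP]
    refine card_eq_mul_of_decomp le_sup_left le_sup_right hKP fun g hg => ?_
    have h1 : g ∈ ((KS a t ⊔ PP x : Subgroup G) : Set G) := hg
    rw [Subgroup.coe_mul_of_right_le_normalizer_left _ _
      (fun e he => mem_normalizer_of_conj (hn e he))] at h1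
    obtain ⟨k, hk, y, hy, rfl⟩ := h1
    exact ⟨k, hk, y, hy, rfl⟩
  have hbot : ∀ U : Subgroup G, KS a t ≤ U → X ⊓ Subgroup.centralizer (U : Set G) = ⊥ :=
    fun U hU => eq_bot_iff.mpr fun g hg => eq_one_of_commute_K hS hk0 hk01 (hX hg.1)
      (Subgroup.mem_centralizer_iff.mp hg.2 k0 (hU (mem_KS_of_mem_KK hk0)))
  have hnil := h.nilpotent_Q
  have hsolv : Group.IsSolvable X :=
    Group.isSolvable_of_isSolvable_injective (Subgroup.inclusion_injective hX)
  have key := Cfsg.Agent.S1545.result (KS a t) (PP x) X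
    (fun e => hk01 (by have := mem_KS_of_mem_KK hk0; rwa [e] at this))
    (fun e => h.x_ne_one (Subgroup.zpowers_eq_bot.mp e)) hKP hn
    (fun e he he1 u hu huc => h.eq_one_of_mem_KK ((mem_KS hS).mp hu)
      (mem_cent.mpr (h.commute_x_of_commute he he1 huc.symm)))
    (fun y hy g hg => conj_mem_of_mem_normalizer
      ((sup_le (fun k hk => mem_normalizer_of_conj (hK k ((mem_KS hS).mp hk)))
        (Subgroup.zpowers_le.mpr (mem_normalizer_of_conj hx)) :
          KS a t ⊔ PP x ≤ Subgroup.normalizer (X : Set G)) hy) hg)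
    (eq_bot_iff.mpr fun g hg => eq_one_of_mem_Q_of_mem_DD hS (hX hg.1) (hle hg.2)) hsolv ?_
  · rw [hbot _ le_sup_left, hbot _ le_rfl, Subgroup.card_bot, one_pow, one_mul, mul_one,
      h.card_PP] at key
    have : Subgroup.centralizer (PP x : Set G) = CC x := ?_
    · rw [key, this]
    ext g
    refine ⟨fun hg => ?_, fun hg => ?_⟩
    · exact mem_cent.mpr (Subgroup.mem_centralizer_iff.mp hg x (Subgroup.mem_zpowers x)).symm
    · exact Subgroup.mem_centralizer_iff.mpr fun y hy =>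
        (commute_of_mem_PP (mem_cent.mp hg) hy).symm
  · rw [hcard]
    apply Nat.Coprime.mul_right
    · exact Nat.coprime_of_mul_modEq_one 1 (by rw [mul_one]; exact h.card_modEq_one hX hK)
    · exact ((Nat.Prime.coprime_iff_not_dvd h.prime).mpr fun hd =>
        h.not_dvd_card_Q (hd.trans (Subgroup.card_dvd_of_le hX))).symm

theorem card_Q_eq : Nat.card Q = Nat.card ↥(Q ⊓ CC x) ^ p :=
  h.card_eq_pow le_rfl (fun _ hk _ hg => conj_mem_Q h.setup hk.1.1 hg)
    (fun _ hg => conj_mem_Q h.setup h.x_mem_DD.1 hg)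

/-- The centraliser in `Q` of an element of `C_W(x)`. -/
theorem card_inf_cent_eq {w : G} (hw : w ∈ WW a t) (hwx : Commute w x) :
    Nat.card ↥(Q ⊓ CC w) = Nat.card ↥(Q ⊓ CC w ⊓ CC x) ^ p := by
  apply h.card_eq_pow inf_le_left
  · intro k hk g hg
    have h1 : k ∈ CC w := mem_cent.mpr ((mem_WW.mp hw).2 k hk)
    exact ⟨conj_mem_Q h.setup hk.1.1 hg.1,
      (CC w).mul_mem ((CC w).mul_mem h1 hg.2) ((CC w).inv_mem h1)⟩
  · intro g hg
    have h1 : x ∈ CC w := mem_cent.mpr hwx.symm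
    exact ⟨conj_mem_Q h.setup h.x_mem_DD.1 hg.1,
      (CC w).mul_mem ((CC w).mul_mem h1 hg.2) ((CC w).inv_mem h1)⟩

theorem eq_one_of_commute_Gam {w : G} (hw : w ∈ WW a t) (hwx : Commute w x)
    (hc : ∀ g ∈ Q ⊓ CC x, Commute g w) : w = 1 := by
  have h1 := h.card_inf_cent_eq hw hwx
  have h2 : Q ⊓ CC w ⊓ CC x = Q ⊓ CC x :=
    le_antisymm (fun g hg => ⟨hg.1.1, hg.2⟩) fun g hg => ⟨⟨hg.1, mem_cent.mpr (hc g hg)⟩, hg.2⟩
  rw [h2, ← h.card_Q_eq] at h1
  have h3 : Q ⊓ CC w = Q := Subgroup.eq_of_le_of_card_ge inf_le_left h1.ge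
  apply eq_one_of_commute_Q h.setup hw.1.1
  intro g hg
  rw [← h3] at hg
  exact (mem_cent.mp hg.2).symm

/-- The kernel of the action of `C_G(x)` on the fixed points of `x` is `P`. -/
theorem mem_PP_of_fix {n : G} (hn : n ∈ CC x) (hfix : ∀ b : Ω, x • b = b → n • b = b) :
    n ∈ PP x := by
  have hD : n ∈ DD a t := ⟨hfix _ h.x_mem_DD.1, hfix _ h.x_mem_DD.2⟩
  obtain ⟨w, hw, y, hy, rfl⟩ := h.exists_W_mul_P (h.mem_VV_of_mem_CC hD hn)
  have hwx : w ∈ CC x := by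
    have := mul_mem hn (inv_mem (PP_le_CC hy))
    rwa [mul_inv_cancel_right] at this
  have : w = 1 := by
    apply h.eq_one_of_commute_Gam hw (mem_cent.mp hwx)
    intro g hg
    have h1 : (w * y) * g * (w * y)⁻¹ = g := by
      apply eq_of_mem_Q_of_smul_eq h.setup (conj_mem_Q h.setup hD.1 hg.1) hg.1 (ta_ne h.setup)
      have h2 : (w * y)⁻¹ • t • a = t • a := (stabilizer G (t • a)).inv_mem hD.2
      rw [mul_smul, mul_smul, h2]
      apply hfix
      rw [smul_smul, ← (mem_cent.mp hg.2).eq, mul_smul, h.x_mem_DD.2]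
    rw [mul_assoc w y g, ← (commute_of_mem_PP (mem_cent.mp hg.2) hy).eq] at h1
    have h3 : w * g * w⁻¹ = g := Eq.trans (by group) h1
    exact (conj_eq_iff_commute.mp h3).symm
  rw [this, one_mul]; exact hy

end Hyp

end CL.RankOneB
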