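import Cfsg.Agent.Base
import Cfsg.Agent.RankOneB.Setup
import Cfsg.Agent.Blocks.ZStar

/-!
# The first case of Suzuki's theorem: the regular normal subgroup `T` of `C_G(x) / P`
-/

set_option autoImplicit false
set_option linter.unusedSectionVars false
set_option linter.style.haveILetI false

namespace CL.RankOneB

open Cfsg MulAction CL.RankOne

variable {G Ω : Type*} [Group G] [MulAction G Ω]

/-- The identity together with the conjugates of `s t` under `C_Q(x)`. -/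
def TS (Q : Subgroup G) (s t x : G) : Set G :=
  {τ | τ = 1 ∨ ∃ γ ∈ Q ⊓ CC x, γ * (s * t) * γ⁻¹ = τ}

/-- The element centralises an involution. -/
def NR (g : G) : Prop := ∃ u : G, u ≠ 1 ∧ u * u = 1 ∧ Commute u g

theorem NR.conj {g : G} (h : NR g) (c : G) : NR (c * g * c⁻¹) := by
  obtain ⟨u, h1, h2, h3⟩ := h
  exact ⟨c * u * c⁻¹, conj_ne_one h1 c, conj_mul_self h2 c, h3.conj c⟩

theorem NR.of_conj {g c : G} (h : NR (c * g * c⁻¹)) : NR g := by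
  have := h.conj c⁻¹
  rwa [show c⁻¹ * (c * g * c⁻¹) * c⁻¹⁻¹ = g by group] at this

theorem NR.pow {g : G} (h : NR g) (k : ℕ) : NR (g ^ k) := by
  obtain ⟨u, h1, h2, h3⟩ := h
  exact ⟨u, h1, h2, h3.pow_right k⟩

variable {a : Ω} {t : G} {Q : Subgroup G} {s r x : G} {p : ℕ}

theorem smul_fix {c : G} (hc : c ∈ CC x) {b : Ω} (hb : x • b = b) : x • c • b = c • b := by
  rw [smul_smul, ← (mem_cent.mp hc).eq, mul_smul, hb]

theorem one_mem_TS : (1 : G) ∈ TS Q s t x := Or.inl rfl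

theorem z_mem_TS : s * t ∈ TS Q s t x := Or.inr ⟨1, one_mem _, by group⟩

namespace Hyp

variable (h : Hyp a t Q s r x p) [Finite G]
include h

theorem xa : x • a = a := h.x_mem_DD.1

theorem PP_fix {y : G} (hy : y ∈ PP x) {b : Ω} (hb : x • b = b) : y • b = b :=
  (Subgroup.zpowers_le.mpr (show x ∈ stabilizer G b from hb) : PP x ≤ stabilizer G b) hy

theorem za_ne : (s * t) • a ≠ a := by
  rw [mul_smul]; exact smul_ne_of_smul_eq h.setup h.sa (ta_ne h.setup)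

theorem z_ne_one : s * t ≠ 1 := fun e => h.za_ne (by rw [e, one_smul])

theorem s_conj_z : s * (s * t) * s = (s * t)⁻¹ := by
  rw [← mul_assoc, h.ss, one_mul, mul_inv_rev, h.s_inv, t_inv h.setup]

theorem commute_s_Q {γ : G} (hγ : γ ∈ Q) : Commute s γ := commute_of_mem_II h.setup h.s_mem hγ

theorem NR_of_commute_s {g : G} (hg : Commute g s) : NR g := ⟨s, h.s_ne_one, h.ss, hg.symm⟩

theorem NR_of_mem_PP {y : G} (hy : y ∈ PP x) : NR y :=
  h.NR_of_commute_s (h.commute_V_s (h.PP_le_VV hy))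

theorem not_NR_of_inverted {g : G} (hg : s * g * s = g⁻¹) (h2 : g * g ≠ 1) : ¬ NR g := by
  rintro ⟨u, hu1, hu2, hu⟩
  have e : s * (s * g) = g := by rw [← mul_assoc, h.ss, one_mul]
  have h3 : (s * g) * (s * g) = 1 := by rw [← mul_assoc, hg, inv_mul_cancel]
  exact hu1 (strongly_real_no_invol h.setup h.ss h3 (by rwa [e]) (by rwa [e]) hu2)

theorem mem_CC_of_mem_TS {τ : G} (hτ : τ ∈ TS Q s t x) : τ ∈ CC x := by
  rcases hτ with rfl | ⟨γ, hγ, rfl⟩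
  · exact one_mem _
  · exact (CC x).mul_mem ((CC x).mul_mem hγ.2 h.z_mem_CC) ((CC x).inv_mem hγ.2)

theorem s_conj_of_mem_TS {τ : G} (hτ : τ ∈ TS Q s t x) : s * τ * s = τ⁻¹ := by
  rcases hτ with rfl | ⟨γ, hγ, rfl⟩
  · rw [mul_one, h.ss, inv_one]
  · have h1 := (h.commute_s_Q hγ.1).eq
    have h2 := (h.commute_s_Q (inv_mem hγ.1)).eq
    calc s * (γ * (s * t) * γ⁻¹) * s = (s * γ) * (s * t) * (γ⁻¹ * s) := by group
      _ = γ * (s * (s * t) * s) * γ⁻¹ := by rw [h1, ← h2]; group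
      _ = _ := by rw [h.s_conj_z]; group

theorem smul_ne_of_mem_TS {τ : G} (hτ : τ ∈ TS Q s t x) (h1 : τ ≠ 1) : τ • a ≠ a := by
  rcases hτ with rfl | ⟨γ, hγ, rfl⟩
  · exact absurd rfl h1
  · have e : γ⁻¹ • a = a := smul_of_mem_Q h.setup (inv_mem hγ.1)
    rw [mul_smul, mul_smul, e]
    exact smul_ne_of_smul_eq h.setup (smul_of_mem_Q h.setup hγ.1) h.za_ne

theorem mul_self_ne_one_of_mem_TS {τ : G} (hτ : τ ∈ TS Q s t x) (h1 : τ ≠ 1) : τ * τ ≠ 1 := by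
  intro e
  have h2 := h.s_conj_of_mem_TS hτ
  rw [inv_eq_of_mul_self e] at h2
  have h3 : Commute τ s := by
    rw [Commute.symm_iff, ← conj_eq_iff_commute, h.s_inv, h2]
  exact h.smul_ne_of_mem_TS hτ h1 (smul_eq_of_commute_invol h.setup h.s_ne_one h.ss h3 h.sa)

theorem not_NR_of_mem_TS {τ : G} (hτ : τ ∈ TS Q s t x) (h1 : τ ≠ 1) : ¬ NR τ :=
  h.not_NR_of_inverted (h.s_conj_of_mem_TS hτ) (h.mul_self_ne_one_of_mem_TS hτ h1)

theorem mem_TS_of_inverted {g : G} (hg : g ∈ CC x) (hs : s * g * s = g⁻¹) (h1 : g ≠ s) :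
    g ∈ TS Q s t x := by
  have hS := h.setup
  by_cases hga : g • a = a
  · have h2 := h.commute_s_of_fix hg hga
    rw [← h2.eq, mul_assoc, h.ss, mul_one] at hs
    have h3 : g * g = 1 := by nth_rewrite 2 [hs]; exact mul_inv_cancel g
    exact Or.inl ((h.rank1 g ((mem_Q0 hS).mpr ⟨hga, h3⟩) (mem_cent.mp hg)).resolve_right h1)
  · have h3 : (s * g) * (s * g) = 1 := by rw [← mul_assoc, hs, inv_mul_cancel]
    have h4 : s * g ∈ CC x := mul_mem h.s_mem_CC hg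
    obtain ⟨γ, hγ, e⟩ := h.exists_Gam_smul (ta_ne hS) (c := (s * g) • a)
      (by rw [mul_smul]; exact smul_ne_of_smul_eq hS h.sa hga) h.x_mem_DD.2 (smul_fix h4 h.xa)
    have h5 : (γ⁻¹ * (s * g) * γ) • a = t • a := by
      rw [mul_smul, mul_smul, smul_of_mem_Q hS hγ.1, ← e, inv_smul_smul]
    have h6 := h.eq_one_of_mem_KK (mul_t_mem_KK hS (conj_mul_self' h3 γ) h5)
      ((CC x).mul_mem ((CC x).mul_mem ((CC x).mul_mem ((CC x).inv_mem hγ.2) h4) hγ.2) h.t_mem_CC)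
    rw [mul_eq_one_iff_eq_inv, t_inv hS] at h6
    refine Or.inr ⟨γ, hγ, ?_⟩
    rw [← h6, ← mul_assoc γ s, ← (h.commute_s_Q hγ.1).eq]
    calc s * γ * (γ⁻¹ * (s * g) * γ) * γ⁻¹ = (s * s) * g := by group
      _ = g := by rw [h.ss, one_mul]

theorem s_not_mem_TS : s ∉ TS Q s t x := fun hs => h.smul_ne_of_mem_TS hs h.s_ne_one h.sa

theorem conj_mem_TS {c τ : G} (hc : c ∈ CC x) (hca : c • a = a) (hτ : τ ∈ TS Q s t x) :
    c * τ * c⁻¹ ∈ TS Q s t x := by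
  have h1 := h.commute_s_of_fix hc hca
  apply h.mem_TS_of_inverted (mul_mem (mul_mem hc (h.mem_CC_of_mem_TS hτ)) (inv_mem hc))
  · calc s * (c * τ * c⁻¹) * s = (s * c) * τ * (c⁻¹ * s) := by group
      _ = c * (s * τ * s) * c⁻¹ := by rw [← h1.eq, h1.inv_left.eq]; group
      _ = _ := by rw [h.s_conj_of_mem_TS hτ]; group
  · intro e
    apply h.s_not_mem_TS
    have : τ = s := by
      calc τ = c⁻¹ * (c * τ * c⁻¹) * c := by group
        _ = s := by rw [e, h1.inv_left.eq, inv_mul_cancel_right]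
    rwa [this] at hτ

theorem inv_mem_TS {τ : G} (hτ : τ ∈ TS Q s t x) : τ⁻¹ ∈ TS Q s t x := by
  have := h.conj_mem_TS h.s_mem_CC h.sa hτ
  rwa [h.s_inv, h.s_conj_of_mem_TS hτ] at this

theorem mul_mem_TS {τ τ' : G} (hτ : τ ∈ TS Q s t x) (hτ' : τ' ∈ TS Q s t x) (hc : Commute τ τ') :
    τ * τ' ∈ TS Q s t x := by
  apply h.mem_TS_of_inverted (mul_mem (h.mem_CC_of_mem_TS hτ) (h.mem_CC_of_mem_TS hτ'))
  · calc s * (τ * τ') * s = (s * τ * s) * (s * τ' * s) := by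
          rw [mul_assoc (s * τ) s, ← mul_assoc s (s * τ'), ← mul_assoc s s, h.ss]; group
      _ = _ := by rw [h.s_conj_of_mem_TS hτ, h.s_conj_of_mem_TS hτ', hc.eq, mul_inv_rev]
  · intro e
    have h1 : Commute τ s := by rw [← e]; exact (Commute.refl τ).mul_right hc
    by_cases hτ1 : τ = 1
    · rw [hτ1, one_mul] at e
      exact h.s_not_mem_TS (e ▸ hτ')
    · exact h.not_NR_of_mem_TS hτ hτ1 (h.NR_of_commute_s h1)

theorem pow_mem_TS {τ : G} (hτ : τ ∈ TS Q s t x) (n : ℕ) : τ ^ n ∈ TS Q s t x := by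
  induction n with
  | zero => rw [pow_zero]; exact one_mem_TS
  | succ n ih => rw [pow_succ]; exact h.mul_mem_TS ih hτ ((Commute.refl τ).pow_left n)

theorem exists_TS_smul {b : Ω} (hb : x • b = b) : ∃ τ ∈ TS Q s t x, τ • a = b := by
  by_cases hba : b = a
  · exact ⟨1, one_mem_TS, by rw [hba, one_smul]⟩
  · obtain ⟨γ, hγ, e⟩ := h.exists_Gam_smul h.za_ne hba (smul_fix h.z_mem_CC h.xa) hb
    refine ⟨_, Or.inr ⟨γ, hγ, rfl⟩, ?_⟩
    rw [mul_smul, mul_smul, smul_of_mem_Q h.setup (inv_mem hγ.1), e]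

theorem exists_TS_mul {c : G} (hc : c ∈ CC x) :
    ∃ τ ∈ TS Q s t x, ∃ d ∈ CC x, d • a = a ∧ c = τ * d := by
  obtain ⟨τ, hτ, e⟩ := h.exists_TS_smul (smul_fix hc h.xa)
  exact ⟨τ, hτ, τ⁻¹ * c, mul_mem (inv_mem (h.mem_CC_of_mem_TS hτ)) hc,
    by rw [mul_smul, ← e, inv_smul_smul], by group⟩

theorem eq_of_conj_z_smul_eq {γ γ' : G} (hγ : γ ∈ Q) (hγ' : γ' ∈ Q)
    (e : (γ * (s * t) * γ⁻¹) • a = (γ' * (s * t) * γ'⁻¹) • a) : γ = γ' := by
  rw [mul_smul, mul_smul, smul_of_mem_Q h.setup (inv_mem hγ), mul_smul _ γ'⁻¹, mul_smul γ',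
    smul_of_mem_Q h.setup (inv_mem hγ')] at e
  exact eq_of_mem_Q_of_smul_eq h.setup hγ hγ' h.za_ne e

theorem eq_of_mem_TS_of_smul_eq {τ τ' : G} (hτ : τ ∈ TS Q s t x) (hτ' : τ' ∈ TS Q s t x)
    (e : τ • a = τ' • a) : τ = τ' := by
  by_cases h1 : τ = 1
  · by_contra h2
    exact h.smul_ne_of_mem_TS hτ' (fun h3 => h2 (h1.trans h3.symm)) (by rw [← e, h1, one_smul])
  by_cases h2 : τ' = 1
  · exact absurd (by rw [e, h2, one_smul]) (h.smul_ne_of_mem_TS hτ h1)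
  obtain ⟨γ, hγ, rfl⟩ := hτ.resolve_left h1
  obtain ⟨γ', hγ', rfl⟩ := hτ'.resolve_left h2
  rw [h.eq_of_conj_z_smul_eq hγ.1 hγ'.1 e]

theorem eq_one_of_commute_TS {γ τ : G} (hγ : γ ∈ Q) (hτ : τ ∈ TS Q s t x) (h1 : τ ≠ 1)
    (hc : Commute γ τ) : γ = 1 := by
  apply eq_one_of_mem_Q_of_smul h.setup hγ (h.smul_ne_of_mem_TS hτ h1)
  rw [smul_smul, hc.eq, mul_smul, smul_of_mem_Q h.setup hγ]

theorem exists_conj_TS {τ τ' : G} (hτ : τ ∈ TS Q s t x) (h1 : τ ≠ 1) (hτ' : τ' ∈ TS Q s t x)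
    (h1' : τ' ≠ 1) : ∃ γ ∈ Q ⊓ CC x, γ * τ * γ⁻¹ = τ' := by
  obtain ⟨γ, hγ, rfl⟩ := hτ.resolve_left h1
  obtain ⟨γ', hγ', rfl⟩ := hτ'.resolve_left h1'
  exact ⟨γ' * γ⁻¹, mul_mem hγ' (inv_mem hγ), by group⟩

theorem card_TS : Nat.card (TS Q s t x) = Nat.card ↥(Q ⊓ CC x) + 1 := by
  rw [← Finite.card_option]
  symm
  refine Nat.card_congr (Equiv.ofBijective (fun o => match o with
    | none => ⟨1, one_mem_TS⟩
    | some γ => ⟨γ * (s * t) * (γ : G)⁻¹, Or.inr ⟨γ, γ.2, rfl⟩⟩) ⟨?_, ?_⟩)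
  · rintro (_ | γ) (_ | γ') e
    · rfl
    · exact absurd (congrArg Subtype.val e).symm (conj_ne_one h.z_ne_one _)
    · exact absurd (congrArg Subtype.val e) (conj_ne_one h.z_ne_one _)
    · have e' : (γ : G) * (s * t) * (γ : G)⁻¹ = γ' * (s * t) * (γ' : G)⁻¹ := congrArg Subtype.val e
      rw [Subtype.ext (h.eq_of_conj_z_smul_eq γ.2.1 γ'.2.1 (by rw [e']))]
  · rintro ⟨τ, rfl | ⟨γ, hγ, rfl⟩⟩
    · exact ⟨none, rfl⟩
    · exact ⟨some ⟨γ, hγ⟩, rfl⟩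

theorem card_CC : Nat.card (CC x) =
    Nat.card ↥(Q ⊓ CC x) * Nat.card ↥(DD a t ⊓ CC x) * (Nat.card ↥(Q ⊓ CC x) + 1) := by
  have hX : ∀ y ∈ ({x} : Set G), y ∈ VV a t := by simpa using h.x_mem
  have h1 := card_G (cent_setup h.setup hX)
  rw [card_subgroupOf] at h1
  have h2 : DD (⟨a, fun y hy => (hX y hy).1.1⟩ : fixSub Ω ({x} : Set G))
      (⟨t, t_mem_centralizer hX⟩ : CC x) = (DD a t).subgroupOf (CC x) :=
    Subgroup.ext fun d => sub_mem_DD _ _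
  rw [h1, ← card_subgroupOf (DD a t), h2]

variable [FaithfulSMul G Ω]

theorem mem_PP_of_commute_mod {d : G} (hd : d ∈ CC x) (hda : d • a = a)
    (hc : ∀ τ ∈ TS Q s t x, τ⁻¹ * (d * τ * d⁻¹) ∈ PP x) : d ∈ PP x := by
  apply h.mem_PP_of_fix hd
  intro b hb
  obtain ⟨τ, hτ, rfl⟩ := h.exists_TS_smul hb
  have h1 := h.PP_fix (hc τ hτ) h.xa
  have h2 : d⁻¹ • a = a := (stabilizer G a).inv_mem hda
  rwa [mul_smul, mul_smul, mul_smul, h2, inv_smul_eq_iff] at h1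

/-- The consequence of the `Z*`-theorem and of the odd order theorem. -/
theorem exists_A : ∃ A : Subgroup G, A ≤ CC x ∧ (∀ c ∈ CC x, ∀ g ∈ A, c * g * c⁻¹ ∈ A) ∧
    (∀ g ∈ A, ∀ g' ∈ A, g * g' * g⁻¹ * g'⁻¹ ∈ PP x) ∧ TS Q s t x ⊆ A := by
  have hS := h.setup
  haveI : Fact (Nat.Prime 2) := ⟨Nat.prime_two⟩
  let N : Subgroup G := (pPrimeCore 2 (CC x)).map (CC x).subtype
  have hNodd : Odd (Nat.card N) := by
    rw [Subgroup.card_map_of_injective (CC x).subtype_injective]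
    exact Nat.coprime_two_right.mp (CL.pPrimeCore_coprime 2 _)
  have hNle : N ≤ CC x := Subgroup.map_subtype_le _
  have hNn : ∀ c ∈ CC x, ∀ g ∈ N, c * g * c⁻¹ ∈ N := by
    rintro c hc _ ⟨g, hg, rfl⟩
    exact ⟨_, Subgroup.Normal.conj_mem inferInstance g hg ⟨c, hc⟩, rfl⟩
  have hzN : s * t ∈ N := by
    have hiso : IsIsolatedInvolution (⟨s, h.s_mem_CC⟩ : CC x) := by
      refine ⟨orderOf_eq_prime (Subtype.ext (by rw [pow_two]; exact h.ss))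
        (fun e => h.s_ne_one (congrArg Subtype.val e)), fun g hg => Subtype.ext ?_⟩
      have hg' : Commute s (g * s * (g : G)⁻¹) := congrArg Subtype.val hg
      have h1 := smul_eq_of_commute_invol hS h.s_ne_one h.ss hg'.symm h.sa
      exact (h.rank1 _ ((mem_Q0 hS).mpr ⟨h1, conj_mul_self h.ss _⟩)
        (mem_cent.mp (g * ⟨s, h.s_mem_CC⟩ * g⁻¹).2)).resolve_left (conj_ne_one h.s_ne_one _)
    obtain ⟨n, hn⟩ := exists_pow_conj_of_odd h.ss hS.mul_self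
      (odd_orderOf_mul hS h.s_ne_one h.ss hS.mul_self h.sa (ta_ne hS))
    refine ⟨_, CL.ZStar.zstar_of_isolated hiso ⟨(s * t) ^ n, pow_mem h.z_mem_CC n⟩, ?_⟩
    show s * (s * t) ^ n * s⁻¹ * ((s * t) ^ n)⁻¹ = s * t
    rw [h.s_inv, mul_assoc, mul_assoc, ← mul_assoc _ s, hn]
  obtain ⟨A, ⟨hAN, hAn, hAP⟩, hmin⟩ := exists_minimal_of_wellFoundedLT
    (fun A : Subgroup G => A ≤ N ∧ (∀ c ∈ CC x, ∀ g ∈ A, c * g * c⁻¹ ∈ A) ∧ ¬ A ≤ PP x)
    ⟨N, le_rfl, hNn, fun hle => h.za_ne (h.PP_fix (hle hzN) h.xa)⟩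
  have hAC := hAN.trans hNle
  refine ⟨A, hAC, hAn, ?_, ?_⟩
  · have hsolv := h.solv A (hNodd.of_dvd_nat (Subgroup.card_dvd_of_le hAN))
    have hA : A ≠ ⊥ := fun e => hAP (e ▸ bot_le)
    haveI : Nontrivial A := (Subgroup.nontrivial_iff_ne_bot A).mpr hA
    have hlt : ⁅A, A⁆ < A := by
      rw [← Subgroup.map_subtype_commutator]
      conv_rhs => rw [← A.range_subtype, MonoidHom.range_eq_map]
      exact (Subgroup.map_lt_map_iff_of_injective A.subtype_injective).mpr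
        (Group.IsSolvable.commutator_lt_top_of_nontrivial A)
    have hP : ⁅A, A⁆ ≤ PP x := by
      by_contra hP
      refine hlt.not_ge (hmin ⟨hlt.le.trans hAN, fun c hc g hg => ?_, hP⟩ hlt.le)
      have h1 : A.map (MulAut.conj c).toMonoidHom ≤ A := by
        rintro _ ⟨g, hg, rfl⟩; exact hAn c hc g hg
      have h2 : ⁅A, A⁆.map (MulAut.conj c).toMonoidHom ≤ ⁅A, A⁆ := by
        rw [Subgroup.map_commutator]; exact Subgroup.commutator_mono h1 h1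
      exact h2 ⟨g, hg, rfl⟩
    exact fun g hg g' hg' => hP (Subgroup.commutator_mem_commutator hg hg')
  · obtain ⟨α, hα, hαP⟩ := SetLike.not_le_iff_exists.mp hAP
    obtain ⟨b, hb, hαb⟩ : ∃ b : Ω, x • b = b ∧ α • b ≠ b := by
      by_contra hcon
      push Not at hcon
      exact hαP (h.mem_PP_of_fix (hAC hα) hcon)
    obtain ⟨c, hc, rfl⟩ := h.exists_cent_smul hb
    have h1 : c⁻¹ * α * c ∈ A := by simpa using hAn _ (inv_mem hc) α hα
    have h2 : (c⁻¹ * α * c) • a ≠ a := by rwa [mul_smul, mul_smul, Ne, inv_smul_eq_iff]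
    generalize c⁻¹ * α * c = β at h1 h2
    have h3 : (s * β * s⁻¹)⁻¹ * β ∈ A := mul_mem (inv_mem (hAn s h.s_mem_CC β h1)) h1
    have h4 : ((s * β * s⁻¹)⁻¹ * β) • a ≠ a := by
      rw [mul_smul, Ne, inv_smul_eq_iff, h.s_inv, mul_smul, mul_smul, h.sa]
      exact fun e => h2 (fixed_unique hS h.s_ne_one h.ss e.symm h.sa)
    have h5 : (s * β * s⁻¹)⁻¹ * β ∈ TS Q s t x := by
      apply h.mem_TS_of_inverted (hAC h3)
      · calc s * ((s * β * s⁻¹)⁻¹ * β) * s = (s * s) * β⁻¹ * s⁻¹ * β * s := by group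
          _ = β⁻¹ * s * β * s⁻¹ := by rw [h.ss, h.s_inv, one_mul]
          _ = _ := by group
      · intro e; exact h4 (by rw [e, h.sa])
    intro τ hτ
    by_cases hτ1 : τ = 1
    · rw [hτ1]; exact one_mem A
    · obtain ⟨γ, hγ, rfl⟩ := h.exists_conj_TS h5 (fun e => h4 (by rw [e, one_smul])) hτ hτ1
      exact hAn γ hγ.2 _ h3

theorem exists_R : ∃ R : Subgroup G, R ≤ CC x ∧ (∀ c ∈ CC x, ∀ g ∈ R, c * g * c⁻¹ ∈ R) ∧
    (∀ g ∈ R, ∀ g' ∈ R, g * g' * g⁻¹ * g'⁻¹ ∈ PP x) ∧ TS Q s t x ⊆ R ∧ PP x ≤ R ∧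
    ∀ g ∈ R, ∃ τ ∈ TS Q s t x, ∃ y ∈ PP x, g = τ * y := by
  obtain ⟨A, hAC, hAn, hAc, hTA⟩ := h.exists_A
  have hdec : ∀ g ∈ A ⊔ PP x, ∃ α ∈ A, ∃ y ∈ PP x, g = α * y := by
    intro g hg
    have h1 : g ∈ ((A ⊔ PP x : Subgroup G) : Set G) := hg
    rw [Subgroup.coe_mul_of_right_le_normalizer_left _ _
      (fun e he => mem_normalizer_of_conj (hAn e (PP_le_CC he)))] at h1
    obtain ⟨k, hk, y, hy, rfl⟩ := h1
    exact ⟨k, hk, y, hy, rfl⟩
  have hle : A ⊔ PP x ≤ CC x := sup_le hAC PP_le_CC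
  have hcomm : ∀ g ∈ A ⊔ PP x, ∀ g' ∈ A ⊔ PP x, g * g' * g⁻¹ * g'⁻¹ ∈ PP x := by
    intro g hg g' hg'
    obtain ⟨α, hα, y, hy, rfl⟩ := hdec g hg
    obtain ⟨α', hα', y', hy', rfl⟩ := hdec g' hg'
    have h1 := (commute_of_mem_PP (mem_cent.mp (hle hg')) hy).eq
    have h2 := (commute_of_mem_PP (mem_cent.mp (hAC hα)) hy').inv_left.eq
    have : α * y * (α' * y') * (α * y)⁻¹ * (α' * y')⁻¹ = α * α' * α⁻¹ * α'⁻¹ := by
      calc α * y * (α' * y') * (α * y)⁻¹ * (α' * y')⁻¹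
          = α * (y * (α' * y')) * y⁻¹ * α⁻¹ * y'⁻¹ * α'⁻¹ := by group
        _ = α * α' * (y' * α⁻¹) * y'⁻¹ * α'⁻¹ := by rw [← h1]; group
        _ = _ := by rw [← h2]; group
    rw [this]; exact hAc α hα α' hα'
  have hT : TS Q s t x ⊆ (A ⊔ PP x : Subgroup G) := fun τ hτ =>
    (le_sup_left : A ≤ A ⊔ PP x) (hTA hτ)
  refine ⟨A ⊔ PP x, hle, fun c hc g hg => ?_, hcomm, hT, le_sup_right, fun g hg => ?_⟩
  · obtain ⟨α, hα, y, hy, rfl⟩ := hdec g hg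
    have : c * (α * y) * c⁻¹ = c * α * c⁻¹ * y := by
      rw [mul_assoc (c * α), (commute_of_mem_PP (mem_cent.mp hc) hy).inv_left.eq]; group
    rw [this]
    exact Subgroup.mul_mem_sup (hAn c hc α hα) hy
  · obtain ⟨τ, hτ, d, hd, hda, rfl⟩ := h.exists_TS_mul (hle hg)
    refine ⟨τ, hτ, d, h.mem_PP_of_commute_mod hd hda fun τ' hτ' => ?_, rfl⟩
    have h1 : d ∈ A ⊔ PP x := by
      have := mul_mem (inv_mem (hT hτ)) hg
      rwa [inv_mul_cancel_left] at this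
    have := hcomm _ (inv_mem (hT hτ')) d h1
    rwa [inv_inv, mul_assoc, mul_assoc, ← mul_assoc d] at this

theorem card_of_decomp {R : Subgroup G} (hT : TS Q s t x ⊆ R) (hP : PP x ≤ R)
    (hdec : ∀ g ∈ R, ∃ τ ∈ TS Q s t x, ∃ y ∈ PP x, g = τ * y) :
    Nat.card R = (Nat.card ↥(Q ⊓ CC x) + 1) * p := by
  rw [← h.card_TS, ← h.card_PP, ← Nat.card_prod]
  symm
  refine Nat.card_congr (Equiv.ofBijective (fun q : TS Q s t x × PP x =>
    (⟨(q.1 : G) * q.2, R.mul_mem (hT q.1.2) (hP q.2.2)⟩ : R)) ⟨?_, ?_⟩)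
  · rintro ⟨τ, y⟩ ⟨τ', y'⟩ e
    have e' : (τ : G) * y = τ' * y' := congrArg Subtype.val e
    have h1 : (τ : G) = τ' := by
      apply h.eq_of_mem_TS_of_smul_eq τ.2 τ'.2
      have := congrArg (fun g : G => g • a) e'
      simpa only [mul_smul, h.PP_fix y.2 h.xa, h.PP_fix y'.2 h.xa] using this
    rw [h1] at e'
    exact Prod.ext (Subtype.ext h1) (Subtype.ext (mul_left_cancel e'))
  · intro g
    obtain ⟨τ, hτ, y, hy, e⟩ := hdec g g.2
    exact ⟨(⟨τ, hτ⟩, ⟨y, hy⟩), Subtype.ext e.symm⟩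

theorem mul_pow_TS {τ y : G} (hτ : τ ∈ TS Q s t x) (hy : y ∈ PP x) (n : ℕ) :
    (τ * y) ^ n = τ ^ n * y ^ n :=
  (commute_of_mem_PP (mem_cent.mp (h.mem_CC_of_mem_TS hτ)) hy).mul_pow n

theorem pow_of_mem_TS {τ : G} (hτ : τ ∈ TS Q s t x) : τ ^ p = 1 := by
  haveI := Fact.mk h.prime
  obtain ⟨R, hRC, -, -, hT, hP, hdec⟩ := h.exists_R
  have hcard := h.card_of_decomp hT hP hdec
  have hd : p ^ 2 ∣ Nat.card R := by
    rw [hcard, pow_two]; exact Nat.mul_dvd_mul_right h.dvd_card_Gam_add_one p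
  obtain ⟨U, hU⟩ := Sylow.exists_subgroup_card_pow_prime p hd
  obtain ⟨ρ, hρU, hρ⟩ : ∃ ρ ∈ U, (ρ : G) ∉ PP x := by
    by_contra hcon
    push Not at hcon
    have h1 : Nat.card U ≤ Nat.card (PP x) :=
      Nat.card_le_card_of_injective (fun u : U => (⟨u.1, hcon _ u.2⟩ : PP x))
        (fun u v e => Subtype.ext (Subtype.ext (Subtype.mk.inj e)))
    rw [hU, h.card_PP] at h1
    have := h.prime.two_le
    nlinarith
  have h1 : (ρ : G) ^ p ^ 2 = 1 := by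
    have := pow_card_eq_one' (x := (⟨ρ, hρU⟩ : U))
    rw [hU] at this
    exact congrArg (fun u : U => ((u : R) : G)) this
  obtain ⟨τ0, hτ0, y, hy, e⟩ := hdec ρ ρ.2
  have hτ01 : τ0 ≠ 1 := fun e' => hρ (by rw [e, e', one_mul]; exact hy)
  rw [e, h.mul_pow_TS hτ0 hy, pow_two, pow_mul y, h.pow_of_mem_PP hy, one_pow, mul_one,
    pow_mul] at h1
  have h2 : τ0 ^ p = 1 := by
    by_contra h2
    obtain ⟨γ, -, e'⟩ := h.exists_conj_TS (h.pow_mem_TS hτ0 p) h2 hτ0 hτ01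
    apply h2
    rw [← e', conj_pow, h1]; group
  by_cases hτ1 : τ = 1
  · rw [hτ1, one_pow]
  · obtain ⟨γ, -, rfl⟩ := h.exists_conj_TS hτ0 hτ01 hτ hτ1
    rw [conj_pow, h2]; group

theorem exists_card_Gam : ∃ m : ℕ, m ≠ 0 ∧ Nat.card ↥(Q ⊓ CC x) + 1 = p ^ m := by
  haveI := Fact.mk h.prime
  obtain ⟨R, hRC, -, -, hT, hP, hdec⟩ := h.exists_R
  have hcard := h.card_of_decomp hT hP hdec
  have hp : IsPGroup p R := fun g => ⟨1, Subtype.ext (by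
    obtain ⟨τ, hτ, y, hy, e⟩ := hdec g g.2
    show (g : G) ^ p ^ 1 = 1
    rw [pow_one, e, h.mul_pow_TS hτ hy, h.pow_of_mem_TS hτ, h.pow_of_mem_PP hy, one_mul])⟩
  obtain ⟨n, hn⟩ := IsPGroup.iff_card.mp hp
  obtain ⟨m, -, hm⟩ := (Nat.dvd_prime_pow h.prime).mp
    (show Nat.card ↥(Q ⊓ CC x) + 1 ∣ p ^ n from ⟨p, by rw [← hn, hcard]⟩)
  refine ⟨m, ?_, hm⟩
  rintro rfl
  have := Nat.card_pos (α := ↥(Q ⊓ CC x))
  rw [pow_zero] at hm
  omega

theorem exists_card_G : ∃ m e : ℕ, m ≠ 0 ∧ Nat.card ↥(Q ⊓ CC x) + 1 = p ^ m ∧ ¬ p ∣ e ∧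
    Nat.card G = Nat.card Q * Nat.card (DD a t) * (p ^ (m + 1) * e) := by
  obtain ⟨m, hm, hc⟩ := h.exists_card_Gam
  obtain ⟨e, he, hpe⟩ := exists_pow_add_one_eq h.prime h.odd_p hm hc
  exact ⟨m, e, hm, hc, hpe, by rw [card_G h.setup, ← he, ← h.card_Q_eq]⟩

/-- The elements of `T` commute. -/
theorem commute_TS {τ τ' : G} (hτ : τ ∈ TS Q s t x) (hτ' : τ' ∈ TS Q s t x) : Commute τ τ' := by
  haveI := Fact.mk h.prime
  by_contra hnc
  obtain ⟨R, hRC, hRn, hRc, hT, hP, hdec⟩ := h.exists_R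
  have hZ : ∀ u ∈ CC x, (∀ τ ∈ TS Q s t x, Commute u τ) → u ∈ PP x := by
    intro u hu hc
    obtain ⟨τ0, hτ0, d, hd, hda, rfl⟩ := h.exists_TS_mul hu
    have hdP : d ∈ PP x := by
      refine h.mem_PP_of_commute_mod hd hda fun τ1 hτ1 => ?_
      have h1 := hRc _ (inv_mem (hT hτ1)) _ (inv_mem (hT hτ0))
      have h2 : d * τ1 * d⁻¹ = τ0⁻¹ * τ1 * τ0 := by
        conv_rhs => rw [← conj_eq_iff_commute.mpr (hc τ1 hτ1)]
        group
      rw [h2]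
      simpa [mul_assoc] using h1
    by_cases h0 : τ0 = 1
    · rw [h0, one_mul]; exact hdP
    exfalso
    have hτ1 : τ ≠ 1 := fun e => hnc (e ▸ Commute.one_left τ')
    obtain ⟨γ, hγ, e⟩ := h.exists_conj_TS hτ hτ1 hτ0 h0
    have h1 := h.conj_mem_TS hγ.2 (smul_of_mem_Q h.setup hγ.1) hτ'
    have h2 : Commute τ0 (γ * τ' * γ⁻¹) := by
      have := (hc _ h1).mul_left
        (commute_of_mem_PP (mem_cent.mp (h.mem_CC_of_mem_TS h1)) (inv_mem hdP)).symm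
      rwa [mul_inv_cancel_right] at this
    rw [← e] at h2
    exact hnc ((Commute.conj_iff γ).mp h2)
  have hp : IsPGroup p (R.subgroupOf (CC x)) := fun g => ⟨1, Subtype.ext (Subtype.ext (by
    obtain ⟨τ, hτ, y, hy, e⟩ := hdec g g.2
    show ((g : CC x) : G) ^ p ^ 1 = 1
    rw [pow_one, e, h.mul_pow_TS hτ hy, h.pow_of_mem_TS hτ, h.pow_of_mem_PP hy, one_mul]))⟩
  obtain ⟨S, hS⟩ := hp.exists_le_sylow
  obtain ⟨n, hn⟩ := IsPGroup.iff_card.mp S.isPGroup'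
  set U : Subgroup G := (S : Subgroup (CC x)).map (CC x).subtype with hU
  have hUc : Nat.card U = p ^ n := by
    rw [hU, Subgroup.card_map_of_injective (CC x).subtype_injective, hn]
  have hRU : R ≤ U := fun g hg => ⟨⟨g, hRC hg⟩, hS hg, rfl⟩
  have hUC : U ≤ CC x := Subgroup.map_subtype_le _
  obtain ⟨m, e, hm, hc, -, hG⟩ := h.exists_card_G
  have hd : p ^ (n + 1) ∣ Nat.card G := by
    have h1 : p ^ n ∣ Nat.card (CC x) := hUc ▸ Subgroup.card_dvd_of_le hUC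
    rw [h.card_CC, mul_assoc, hc] at h1
    have h2 : Nat.Coprime (p ^ n) (Nat.card ↥(Q ⊓ CC x)) :=
      Nat.Coprime.pow_left n ((Nat.Prime.coprime_iff_not_dvd h.prime).mpr fun hd =>
        h.not_dvd_card_Q (hd.trans (Subgroup.card_dvd_of_le inf_le_left)))
    have h3 := h2.dvd_of_dvd_mul_left h1
    have h4 : p ^ n ∣ Nat.card (DD a t) * p ^ m :=
      h3.trans (Nat.mul_dvd_mul_right (Subgroup.card_dvd_of_le inf_le_left) _)
    rw [hG, mul_assoc, ← mul_assoc (Nat.card (DD a t)), pow_succ, pow_succ, ← mul_assoc _ _ p]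
    exact ((Nat.mul_dvd_mul_right h4 p).mul_right _).mul_left _
  obtain ⟨U', -, hU'c, hU'n⟩ := exists_succ_normalizing h.prime hUc hd
  have hU'C : U' ≤ CC x := by
    intro g hg
    apply mem_cent.mpr (h.commute_of_conj_mem_PP (hZ _ (hUC (conj_mem_of_mem_normalizer (hU'n hg)
      (hRU (hP (Subgroup.mem_zpowers x))))) fun τ hτ => ?_))
    have h1 := mem_cent.mp (hUC (conj_mem_of_mem_normalizer' (hU'n hg) (hRU (hT hτ))))
    have := h1.symm.conj g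
    rwa [show g * (g⁻¹ * τ * g) * g⁻¹ = τ by group] at this
  have h1 : p ^ (n + 1) ∣ Nat.card (CC x) := hU'c ▸ Subgroup.card_dvd_of_le hU'C
  rw [← (S : Subgroup (CC x)).card_mul_index, hn, pow_succ] at h1
  exact S.not_dvd_index (Nat.dvd_of_mul_dvd_mul_left (pow_pos h.prime.pos n) h1)

/-- The subgroup `T`. -/
def TT : Subgroup G where
  carrier := TS Q s t x
  one_mem' := one_mem_TS
  mul_mem' := fun h1 h2 => h.mul_mem_TS h1 h2 (h.commute_TS h1 h2)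
  inv_mem' := h.inv_mem_TS

theorem mem_TT {τ : G} : τ ∈ h.TT ↔ τ ∈ TS Q s t x := Iff.rfl

theorem card_TT : Nat.card h.TT = Nat.card ↥(Q ⊓ CC x) + 1 := h.card_TS

theorem conj_mem_TT {c τ : G} (hc : c ∈ CC x) (hτ : τ ∈ h.TT) : c * τ * c⁻¹ ∈ h.TT := by
  obtain ⟨τ0, hτ0, d, hd, hda, rfl⟩ := h.exists_TS_mul hc
  have : τ0 * d * τ * (τ0 * d)⁻¹ = τ0 * (d * τ * d⁻¹) * τ0⁻¹ := by group
  rw [this]
  exact h.TT.mul_mem (h.TT.mul_mem hτ0 (h.conj_mem_TS hd hda hτ)) (h.TT.inv_mem hτ0)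

end Hyp

end CL.RankOneB
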