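import Cfsg.Agent.Base
import Cfsg.Agent.RankOneB.Reg

/-!
# The first case of Suzuki's theorem: `p` divides the order of `C_W(x)`
-/

set_option autoImplicit false
set_option linter.unusedSectionVars false
set_option linter.style.haveILetI false

namespace CL.RankOneB

open Cfsg MulAction CL.RankOne

variable {G Ω : Type*} [Group G] [MulAction G Ω]

/-- The conjugates under `N` of the non-trivial powers of `x`. -/
def DN (x : G) (N : Subgroup G) : Set G :=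
  {g | ∃ n ∈ N, ∃ y ∈ PP x, y ≠ 1 ∧ n * y * n⁻¹ = g}

theorem card_eq_mul_relIndex {A N : Subgroup G} (hA : A ≤ N) :
    Nat.card N = Nat.card A * A.relIndex N := by
  rw [← (A.subgroupOf N).card_mul_index,
    Nat.card_congr (Subgroup.subgroupOfEquivOfLe hA).toEquiv]; rfl

variable {a : Ω} {t : G} {Q : Subgroup G} {s r x : G} {p : ℕ}

namespace Hyp

variable (h : Hyp a t Q s r x p) [Finite G]
include h

theorem ncard_DN {N : Subgroup G} : (DN x N).ncard = (CC x).relIndex N * (p - 1) := by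
  classical
  have h1 : Nat.card {y : PP x // y ≠ 1} = p - 1 := by
    rw [← h.card_PP, ← Nat.card_congr (Equiv.optionSubtypeNe (1 : PP x)), Finite.card_option]; rfl
  rw [← h1, Subgroup.relIndex, Subgroup.index, ← Nat.card_prod, ← Nat.card_coe_set_eq]
  symm
  refine Nat.card_congr (Equiv.ofBijective
    (fun q : (N ⧸ (CC x).subgroupOf N) × {y : PP x // y ≠ 1} =>
      (⟨(q.1.out : G) * q.2.1 * (q.1.out : G)⁻¹, q.1.out, q.1.out.2, q.2.1, q.2.1.2,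
        fun e => q.2.2 (Subtype.ext e), rfl⟩ : DN x N)) ⟨?_, ?_⟩)
  · rintro ⟨q, y⟩ ⟨q', y'⟩ e
    have e' : (q.out : G) * y.1 * (q.out : G)⁻¹ = (q'.out : G) * y'.1 * (q'.out : G)⁻¹ :=
      congrArg Subtype.val e
    have e2 : ((q'.out : G)⁻¹ * q.out) * y.1 * ((q'.out : G)⁻¹ * q.out)⁻¹ = y'.1 := by
      calc ((q'.out : G)⁻¹ * q.out) * y.1 * ((q'.out : G)⁻¹ * q.out)⁻¹
          = (q'.out : G)⁻¹ * ((q.out : G) * y.1 * (q.out : G)⁻¹) * q'.out := by group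
        _ = _ := by rw [e']; group
    have hc := h.commute_of_conj_mem_PP' y.1.2 (fun e => y.2 (Subtype.ext e)) (e2 ▸ y'.1.2)
    rw [conj_eq_iff_commute.mpr (commute_of_mem_PP hc y.1.2)] at e2
    have hq : q' = q := by
      rw [← q.out_eq', ← q'.out_eq', QuotientGroup.eq]
      exact mem_cent.mpr hc
    exact Prod.ext hq.symm (Subtype.ext (Subtype.ext e2))
  · rintro ⟨_, n, hn, y, hy, hy1, rfl⟩
    obtain ⟨c, hc⟩ := QuotientGroup.mk_out_eq_mul ((CC x).subgroupOf N) ⟨n, hn⟩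
    refine ⟨(QuotientGroup.mk ⟨n, hn⟩, ⟨⟨y, hy⟩, fun e => hy1 (congrArg Subtype.val e)⟩),
      Subtype.ext ?_⟩
    have hcy : Commute ((c : N) : G) y := commute_of_mem_PP (mem_cent.mp c.2) hy
    show (((QuotientGroup.mk ⟨n, hn⟩ : N ⧸ (CC x).subgroupOf N).out : N) : G) * y *
      (((QuotientGroup.mk ⟨n, hn⟩ : N ⧸ (CC x).subgroupOf N).out : N) : G)⁻¹ = n * y * n⁻¹
    rw [hc, Subgroup.coe_mul, mul_assoc _ _ y, hcy.eq]; group

theorem NR_of_mem_DN {N : Subgroup G} {g : G} (hg : g ∈ DN x N) : NR g ∧ g ≠ 1 := by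
  obtain ⟨n, -, y, hy, hy1, rfl⟩ := hg
  exact ⟨(h.NR_of_mem_PP hy).conj n, conj_ne_one hy1 n⟩

theorem not_dvd_card_KS : ¬ p ∣ Nat.card (KS a t) := by
  haveI := h.solvD
  have h1 := card_modEq_inf_cent (k := 1) h.prime (X := KS a t) (y := x)
    (by rw [pow_one, h.x_pow]) (fun g hg => mem_KS_of_mem_KK
      (conj_mem_KK_of_mem_DD h.setup ((mem_KS h.setup).mp hg) h.x_mem_DD))
  have h2 : KS a t ⊓ CC x = ⊥ := eq_bot_iff.mpr fun k hk =>
    h.eq_one_of_mem_KK ((mem_KS h.setup).mp hk.1) hk.2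
  rw [h2, Subgroup.card_bot] at h1
  intro hd
  exact h.prime.one_lt.ne' (Nat.dvd_one.mp ((Nat.modEq_zero_iff_dvd.mp
    (h1.symm.trans (Nat.modEq_zero_iff_dvd.mpr hd)))))

variable [FaithfulSMul G Ω]

/-- The subgroup `R = T × P`. -/
def RR : Subgroup G := h.TT ⊔ PP x

theorem TT_le_CC : h.TT ≤ CC x := fun _ => h.mem_CC_of_mem_TS

theorem TT_le_RR : h.TT ≤ h.RR := le_sup_left

theorem PP_le_RR : PP x ≤ h.RR := le_sup_right

theorem x_mem_RR : x ∈ h.RR := h.PP_le_RR (Subgroup.mem_zpowers x)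

theorem RR_le_CC : h.RR ≤ CC x := sup_le h.TT_le_CC PP_le_CC

theorem exists_of_mem_RR {g : G} (hg : g ∈ h.RR) : ∃ τ ∈ h.TT, ∃ y ∈ PP x, g = τ * y := by
  have h1 : g ∈ ((h.TT ⊔ PP x : Subgroup G) : Set G) := hg
  rw [Subgroup.coe_mul_of_right_le_normalizer_left _ _
    (fun e he => mem_normalizer_of_conj (fun _ => h.conj_mem_TT (PP_le_CC he)))] at h1
  obtain ⟨k, hk, y, hy, rfl⟩ := h1
  exact ⟨k, hk, y, hy, rfl⟩

theorem card_RR : Nat.card h.RR = (Nat.card ↥(Q ⊓ CC x) + 1) * p :=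
  h.card_of_decomp h.TT_le_RR h.PP_le_RR fun _ => h.exists_of_mem_RR

theorem conj_mem_RR {c g : G} (hc : c ∈ CC x) (hg : g ∈ h.RR) : c * g * c⁻¹ ∈ h.RR := by
  obtain ⟨τ, hτ, y, hy, rfl⟩ := h.exists_of_mem_RR hg
  have : c * (τ * y) * c⁻¹ = c * τ * c⁻¹ * y := by
    rw [mul_assoc (c * τ), (commute_of_mem_PP (mem_cent.mp hc) hy).inv_left.eq]; group
  rw [this]
  exact Subgroup.mul_mem_sup (h.conj_mem_TT hc hτ) hy

theorem not_mem_TT_of_NR {g : G} (h1 : NR g) (h2 : g ≠ 1) : g ∉ h.TT :=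
  fun hg => h.not_NR_of_mem_TS hg h2 h1

theorem mem_RR_of_commute {c : G} (hc : c ∈ CC x) (hT : ∀ τ ∈ h.TT, Commute c τ) : c ∈ h.RR := by
  obtain ⟨τ0, hτ0, d, hd, hda, rfl⟩ := h.exists_TS_mul hc
  refine Subgroup.mul_mem_sup hτ0 (h.mem_PP_of_commute_mod hd hda fun τ hτ => ?_)
  have h1 := (hT τ hτ).mul_left (h.commute_TS (h.inv_mem_TS hτ0) hτ) |>.symm
  have h2 : Commute d τ := by
    have := (h.commute_TS (h.inv_mem_TS hτ0) hτ).mul_left (hT τ hτ)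
    rwa [inv_mul_cancel_left] at this
  rw [conj_eq_iff_commute.mpr h2, inv_mul_cancel]
  exact one_mem _

/-- If an element outside `C_G(x)` normalises `R`, all elements of `R - T` are conjugate into `P`. -/
theorem DN_eq {g : G} (hg : g ∈ Subgroup.normalizer (h.RR : Set G)) (hgC : g ∉ CC x) :
    DN x (Subgroup.normalizer (h.RR : Set G)) = (h.RR : Set G) \ h.TT := by
  ext ρ
  constructor
  · intro hρ
    refine ⟨?_, h.not_mem_TT_of_NR (h.NR_of_mem_DN hρ).1 (h.NR_of_mem_DN hρ).2⟩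
    obtain ⟨n, hn, y, hy, -, rfl⟩ := hρ
    exact conj_mem_of_mem_normalizer hn (h.PP_le_RR hy)
  · rintro ⟨hρ, hρT⟩
    obtain ⟨τ, hτ, y, hy, rfl⟩ := h.exists_of_mem_RR hρ
    have hy1 : y ≠ 1 := fun e => hρT (by rw [e, mul_one]; exact hτ)
    by_cases hτ1 : τ = 1
    · exact ⟨1, one_mem _, y, hy, hy1, by rw [hτ1]; group⟩
    obtain ⟨τ0, hτ0, y0, hy0, e⟩ := h.exists_of_mem_RR (conj_mem_of_mem_normalizer hg h.x_mem_RR)
    have hy01 : y0 ≠ 1 := by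
      intro e'
      rw [e', mul_one] at e
      exact h.not_mem_TT_of_NR ((h.NR_of_mem_PP (Subgroup.mem_zpowers x)).conj g)
        (conj_ne_one h.x_ne_one g) (e ▸ hτ0)
    obtain ⟨k, hk⟩ := h.exists_pow_eq hy0 hy01
    obtain ⟨j, hj⟩ := mem_powers_iff_mem_zpowers.mpr hy
    have e1 : g * x ^ (k * j) * g⁻¹ = τ0 ^ (k * j) * y := by
      rw [← conj_pow, e, h.mul_pow_TS hτ0 hy0, pow_mul y0, hk]; exact congrArg _ hj
    have hx1 : x ^ (k * j) ≠ 1 := by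
      intro e2
      rw [e2, mul_one, mul_inv_cancel, eq_comm, mul_eq_one_iff_eq_inv'] at e1
      exact h.not_mem_TT_of_NR (h.NR_of_mem_PP hy) hy1 (e1 ▸ inv_mem (pow_mem hτ0 _))
    have hxP : x ^ (k * j) ∈ PP x := pow_mem (Subgroup.mem_zpowers x) _
    have hτ01 : τ0 ^ (k * j) ≠ 1 := by
      intro e2
      rw [e2, one_mul] at e1
      exact hgC (mem_cent.mpr (h.commute_of_conj_mem_PP' hxP hx1 (e1 ▸ hy)))
    obtain ⟨γ, hγ, e2⟩ := h.exists_conj_TS (h.pow_mem_TS hτ0 _) hτ01 hτ hτ1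
    refine ⟨γ * g, mul_mem (mem_normalizer_of_conj fun _ => h.conj_mem_RR hγ.2) hg, _, hxP, hx1, ?_⟩
    calc γ * g * x ^ (k * j) * (γ * g)⁻¹ = γ * (g * x ^ (k * j) * g⁻¹) * γ⁻¹ := by group
      _ = γ * τ0 ^ (k * j) * γ⁻¹ * (γ * y * γ⁻¹) := by rw [e1]; group
      _ = τ * y := by
        rw [e2, conj_eq_iff_commute.mpr (commute_of_mem_PP (mem_cent.mp hγ.2) hy)]

theorem caseA_card (hσ : ¬ p ∣ Nat.card ↥(WW a t ⊓ CC x)) : ∃ m e : ℕ, m ≠ 0 ∧
    Nat.card ↥(Q ⊓ CC x) + 1 = p ^ m ∧ ¬ p ∣ e ∧ Nat.card G = p ^ (m + 2) * e ∧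
      ¬ p ^ (m + 2) ∣ Nat.card (CC x) := by
  obtain ⟨m, e, hm, hc, hpe, hG⟩ := h.exists_card_G
  have hW : ¬ p ∣ Nat.card (WW a t) := by
    have h1 := card_modEq_inf_cent (k := 1) h.prime (X := WW a t) (y := x)
      (by rw [pow_one, h.x_pow]) (fun g hg => conj_mem_WW h.setup h.x_mem_DD hg)
    exact fun hd => hσ (Nat.modEq_zero_iff_dvd.mp (h1.symm.trans (Nat.modEq_zero_iff_dvd.mpr hd)))
  have hWK : ¬ p ∣ Nat.card (WW a t) * Nat.card (KS a t) :=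
    h.prime.not_dvd_mul hW h.not_dvd_card_KS
  refine ⟨m, Nat.card Q * (Nat.card (WW a t) * Nat.card (KS a t)) * e, hm, hc,
    h.prime.not_dvd_mul (h.prime.not_dvd_mul h.not_dvd_card_Q hWK) hpe, ?_, ?_⟩
  · rw [hG, h.card_DD_eq]; ring
  · intro hd
    rw [h.card_CC, hc, pow_add, mul_comm (p ^ m)] at hd
    have h1 := Nat.dvd_of_mul_dvd_mul_right (pow_pos h.prime.pos m) hd
    have h2 : Nat.Coprime (p ^ 2) (Nat.card ↥(Q ⊓ CC x)) :=
      Nat.Coprime.pow_left 2 ((Nat.Prime.coprime_iff_not_dvd h.prime).mpr fun hd =>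
        h.not_dvd_card_Q (hd.trans (Subgroup.card_dvd_of_le inf_le_left)))
    have h3 := (h2.dvd_of_dvd_mul_left h1).trans (Subgroup.card_dvd_of_le inf_le_left)
    rw [h.card_DD_eq, pow_two, mul_right_comm] at h3
    exact hWK (Nat.dvd_of_mul_dvd_mul_right h.prime.pos h3)

set_option maxHeartbeats 800000 in
theorem caseA (hσ : ¬ p ∣ Nat.card ↥(WW a t ⊓ CC x)) : False := by
  haveI := Fact.mk h.prime
  have hp := h.prime
  obtain ⟨m, e, hm, hc, hpe, hG, hC⟩ := h.caseA_card hσ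
  have hT : Nat.card h.TT = p ^ m := h.card_TT.trans hc
  have hR : Nat.card h.RR = p ^ (m + 1) := by rw [h.card_RR, hc, pow_succ]
  obtain ⟨R1, hRR1, hR1, hR1n⟩ := exists_succ_normalizing hp hR ⟨e, hG⟩
  obtain ⟨g, hg, hgC⟩ : ∃ g ∈ R1, g ∉ CC x :=
    SetLike.not_le_iff_exists.mp fun hle => hC (hR1 ▸ Subgroup.card_dvd_of_le hle)
  have hDN := h.DN_eq (hR1n hg) hgC
  have hp1 : 0 < p - 1 := Nat.sub_pos_of_lt hp.one_lt
  have hndvd : ∀ k, p ^ k ∣ Nat.card G → k ≤ m + 2 := by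
    intro k hk
    by_contra hlt
    have h1 : p ^ (m + 2 + 1) ∣ p ^ (m + 2) * e := hG ▸ (pow_dvd_pow p (by omega)).trans hk
    rw [pow_succ] at h1
    exact hpe (Nat.dvd_of_mul_dvd_mul_left (pow_pos hp.pos _) h1)
  have hRC : p ^ (m + 1) ∣ Nat.card (CC x) := hR ▸ Subgroup.card_dvd_of_le h.RR_le_CC
  -- `m = 1`
  have hm1 : m = 1 := by
    have h1 := h.ncard_DN (N := Subgroup.normalizer (h.RR : Set G))
    rw [hDN, Set.ncard_sdiff h.TT_le_RR, ← Nat.card_coe_set_eq, ← Nat.card_coe_set_eq] at h1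
    have h2 : p ^ (m + 1) - p ^ m = p ^ m * (p - 1) := by rw [pow_succ, Nat.mul_sub_one]
    have h3 : (CC x).relIndex (Subgroup.normalizer (h.RR : Set G)) = p ^ m := by
      apply Nat.eq_of_mul_eq_mul_right hp1
      rw [← h1, ← h2, ← hR, ← hT]; rfl
    have h4 : p ^ (m + 1 + m) ∣ Nat.card G := by
      refine Dvd.dvd.trans ?_ (Subgroup.card_subgroup_dvd_card (Subgroup.normalizer (h.RR : Set G)))
      rw [card_eq_mul_relIndex (A := CC x)
        (fun c hc => mem_normalizer_of_conj fun _ => h.conj_mem_RR hc), h3, pow_add]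
      exact Nat.mul_dvd_mul_right hRC _
    have := hndvd _ h4
    omega
  subst hm1
  rw [pow_one] at hT hc
  have hmemT : ∀ ρ ∈ h.RR, (ρ = 1 ∨ ¬ NR ρ) → ρ ∈ h.TT := by
    intro ρ hρ h1
    by_contra h2
    have h3 : ρ ∈ DN x (Subgroup.normalizer (h.RR : Set G)) := by rw [hDN]; exact ⟨hρ, h2⟩
    rcases h1 with h1 | h1
    · exact (h.NR_of_mem_DN h3).2 h1
    · exact h1 (h.NR_of_mem_DN h3).1
  have hconjT : ∀ n τ, τ ∈ h.TT → n * τ * n⁻¹ ∈ h.RR → n * τ * n⁻¹ ∈ h.TT := by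
    intro n τ hτ hn
    apply hmemT _ hn
    by_cases h1 : τ = 1
    · left; rw [h1]; group
    · exact Or.inr fun h2 => h.not_NR_of_mem_TS hτ h1 h2.of_conj
  have hR1T : ∀ ρ ∈ R1, ∀ τ ∈ h.TT, ρ * τ * ρ⁻¹ ∈ h.TT := fun ρ hρ τ hτ =>
    hconjT ρ τ hτ (conj_mem_of_mem_normalizer (hR1n hρ) (h.TT_le_RR hτ))
  have hR1pow : ∀ ρ ∈ R1, ρ ^ p ^ 3 = 1 := by
    intro ρ hρ
    have := pow_card_eq_one' (x := (⟨ρ, hρ⟩ : R1))
    rw [hR1] at this
    exact congrArg Subtype.val this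
  have hcen : ∀ ρ ∈ R1, ∀ τ ∈ h.TT, Commute τ ρ := by
    intro ρ hρ τ hτ
    have h1 := card_modEq_inf_cent hp (hR1pow ρ hρ) (hR1T ρ hρ)
    rw [hT] at h1
    have h2 : p ∣ Nat.card ↥(h.TT ⊓ CC ρ) :=
      Nat.modEq_zero_iff_dvd.mp (h1.symm.trans (Nat.modEq_zero_iff_dvd.mpr dvd_rfl))
    have h3 : h.TT ⊓ CC ρ = h.TT :=
      Subgroup.eq_of_le_of_card_ge inf_le_left (hT.trans_le (Nat.le_of_dvd Nat.card_pos h2))
    rw [← h3] at hτ
    exact mem_cent.mp hτ.2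
  have hTR1 : h.TT ≤ R1 := h.TT_le_RR.trans hRR1
  have hTn : (h.TT.subgroupOf R1).Normal := (Subgroup.normal_subgroupOf_iff_le_normalizer hTR1).mpr
    fun ρ hρ => mem_normalizer_of_conj (hR1T ρ hρ)
  have hab : ∀ ρ ∈ R1, ∀ ρ' ∈ R1, ρ * ρ' * ρ⁻¹ * ρ'⁻¹ ∈ h.TT := by
    intro ρ hρ ρ' hρ'
    have h1 : Nat.card (R1 ⧸ h.TT.subgroupOf R1) = p ^ 2 := by
      have h2 := card_eq_mul_relIndex hTR1
      rw [hR1, hT, pow_succ'] at h2
      exact (Nat.eq_of_mul_eq_mul_left hp.pos h2).symm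
    have h2 := (IsPGroup.isMulCommutative_of_card_eq_prime_sq h1).is_comm.comm
      (QuotientGroup.mk (⟨ρ, hρ⟩ : R1)⁻¹) (QuotientGroup.mk (⟨ρ', hρ'⟩ : R1)⁻¹)
    rw [← QuotientGroup.mk_mul, ← QuotientGroup.mk_mul, eq_comm, QuotientGroup.eq] at h2
    simpa [Subgroup.mem_subgroupOf, mul_assoc] using h2
  have hxR1 : x ∈ R1 := hRR1 h.x_mem_RR
  have hτ0 := hab g hg x hxR1
  have hτ01 : g * x * g⁻¹ * x⁻¹ ≠ 1 := fun e' =>
    hgC (mem_cent.mpr (conj_eq_iff_commute.mp (mul_inv_eq_one.mp e')))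
  have hsurj : ∀ τ ∈ h.TT, ∃ ρ ∈ R1, ρ * x * ρ⁻¹ = τ * x := by
    intro τ hτ
    obtain ⟨k, hk⟩ := mem_powers_of_prime_card hT (g := ⟨_, hτ0⟩) (g' := ⟨τ, hτ⟩)
      (fun e' => hτ01 (congrArg Subtype.val e'))
    have hk' : (g * x * g⁻¹ * x⁻¹) ^ k = τ := congrArg Subtype.val hk
    refine ⟨g ^ k, pow_mem hg k, ?_⟩
    rw [← hk']
    clear hk hk'
    induction k with
    | zero => simp
    | succ k ih =>
      calc g ^ (k + 1) * x * (g ^ (k + 1))⁻¹ = g * (g ^ k * x * (g ^ k)⁻¹) * g⁻¹ := by group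
        _ = (g * (g * x * g⁻¹ * x⁻¹) ^ k) * x * g⁻¹ := by rw [ih]; group
        _ = _ := by rw [← (hcen g hg _ (pow_mem hτ0 k)).eq, pow_succ]; group
  have hmemR1 : ∀ n, (∀ τ ∈ h.TT, Commute τ n) → n * x * n⁻¹ * x⁻¹ ∈ h.TT → n ∈ R1 := by
    intro n h1 h2
    obtain ⟨ρ, hρ, e'⟩ := hsurj _ h2
    have h3 : ρ⁻¹ * n ∈ h.RR := by
      apply h.mem_RR_of_commute
      · rw [mem_cent, ← conj_eq_iff_commute]
        calc ρ⁻¹ * n * x * (ρ⁻¹ * n)⁻¹ = ρ⁻¹ * (n * x * n⁻¹ * x⁻¹ * x) * ρ := by group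
          _ = x := by rw [← e']; group
      · exact fun τ hτ => ((hcen ρ hρ τ hτ).inv_right.mul_right (h1 τ hτ)).symm
    have := mul_mem hρ (hRR1 h3)
    rwa [mul_inv_cancel_left] at this
  set N1 := Subgroup.normalizer (R1 : Set G) ⊓ Subgroup.normalizer (h.TT : Set G) with hN1
  have hmemN1 : ∀ n ∈ Subgroup.normalizer (h.TT : Set G), n * x * n⁻¹ ∈ R1 → n ∈ N1 := by
    intro n hn hnx
    refine Subgroup.mem_inf.mpr
      ⟨(inv_mem_iff (x := n)).mp (mem_normalizer_of_conj fun ρ hρ => hmemR1 _ ?_ ?_), hn⟩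
    · intro τ hτ
      have := (hcen ρ hρ _ (conj_mem_of_mem_normalizer hn hτ)).conj n⁻¹
      rwa [show n⁻¹ * (n * τ * n⁻¹) * n⁻¹⁻¹ = τ by group] at this
    · have := conj_mem_of_mem_normalizer' hn (hab ρ hρ _ hnx)
      convert this using 1
      group
  have hCN1 : CC x ≤ N1 := fun c hc => hmemN1 c (mem_normalizer_of_conj fun _ => h.conj_mem_TT hc)
    (by rw [conj_eq_iff_commute.mpr (mem_cent.mp hc)]; exact hxR1)
  have hR1N1 : R1 ≤ N1 := fun ρ hρ =>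
    ⟨Subgroup.le_normalizer hρ, mem_normalizer_of_conj (hR1T ρ hρ)⟩
  have hpel : ∀ c ∈ CC x, c ^ p = 1 → c ∈ h.RR := by
    intro c hc hcp
    have h1 : IsPGroup p h.RR := IsPGroup.of_card hR
    have h2 : IsPGroup p (Subgroup.zpowers c) := IsPGroup.iff_orderOf.mpr fun u => by
      have h3 : orderOf u ∣ p ^ 1 := by
        rw [pow_one]
        exact (orderOf_dvd_natCard u).trans (Nat.card_zpowers c ▸ orderOf_dvd_of_pow_eq_one hcp)
      obtain ⟨k, -, hk⟩ := (Nat.dvd_prime_pow hp).mp h3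
      exact ⟨k, hk⟩
    have h3 := h1.to_sup_of_normal_left' h2
      (Subgroup.zpowers_le.mpr (mem_normalizer_of_conj fun _ => h.conj_mem_RR hc))
    obtain ⟨k, hk⟩ := IsPGroup.iff_card.mp h3
    have h4 : h.RR ⊔ Subgroup.zpowers c ≤ CC x := sup_le h.RR_le_CC (Subgroup.zpowers_le.mpr hc)
    have h5 : k ≤ 1 + 1 := by
      by_contra hlt
      exact hC ((pow_dvd_pow p (by omega)).trans (hk ▸ Subgroup.card_dvd_of_le h4))
    have h6 : h.RR = h.RR ⊔ Subgroup.zpowers c := Subgroup.eq_of_le_of_card_ge le_sup_left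
      (by rw [hk, hR]; exact Nat.pow_le_pow_right hp.pos h5)
    rw [h6]
    exact Subgroup.mem_sup_right (Subgroup.mem_zpowers c)
  have hB : ∀ b, b * x * b⁻¹ ∈ R1 → b ∈ N1 := by
    intro b hb
    refine hmemN1 b ((inv_mem_iff (x := b)).mp (mem_normalizer_of_conj fun τ hτ => ?_)) hb
    apply hconjT _ _ hτ
    apply hpel
    · have := (hcen _ hb τ hτ).conj b⁻¹
      rw [show b⁻¹ * (b * x * b⁻¹) * b⁻¹⁻¹ = x by group] at this
      exact mem_cent.mpr this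
    · rw [conj_pow, h.pow_of_mem_TS hτ]; group
  -- weak closure
  have hC' : ∀ b, b * x * b⁻¹ ∈ R1 → b * x * b⁻¹ ∈ h.RR := by
    intro b hb
    by_contra hbR
    have hbN := hB b hb
    have hτ' := hab _ hb x hxR1
    have hτ'1 : b * x * b⁻¹ * x * (b * x * b⁻¹)⁻¹ * x⁻¹ ≠ 1 := fun e' =>
      hbR (hpel _ (mem_cent.mpr (conj_eq_iff_commute.mp (mul_inv_eq_one.mp e')))
        (by rw [conj_pow, h.x_pow]; group))
    set x' := b * x * b⁻¹ with hx'
    set j := (CC x).relIndex N1 with hj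
    have hN1c : Nat.card N1 = Nat.card (CC x) * j := card_eq_mul_relIndex hCN1
    have hlow : p * p ≤ j := by
      let u : Option ↥(Q ⊓ CC x) → G := fun o => match o with
        | none => x
        | some γ => γ * x' * (γ : G)⁻¹
      have hex : ∀ q : h.TT × Option ↥(Q ⊓ CC x), ∃ n : N1,
          (n : G) * x * (n : G)⁻¹ = q.1 * u q.2 := by
        rintro ⟨τ, _ | γ⟩
        · obtain ⟨ρ, hρ, e'⟩ := hsurj τ τ.2
          exact ⟨⟨ρ, hR1N1 hρ⟩, e'⟩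
        · have h1 : (γ : G) * b ∈ N1 := mul_mem (hCN1 γ.2.2) hbN
          obtain ⟨ρ, hρ, e'⟩ := hsurj _ (conj_mem_of_mem_normalizer' h1.2 τ.2)
          refine ⟨⟨γ * b * ρ, mul_mem h1 (hR1N1 hρ)⟩, ?_⟩
          show γ * b * ρ * x * ((γ : G) * b * ρ)⁻¹ = τ * (γ * (b * x * b⁻¹) * (γ : G)⁻¹)
          calc γ * b * ρ * x * ((γ : G) * b * ρ)⁻¹
              = γ * b * (ρ * x * ρ⁻¹) * ((γ : G) * b)⁻¹ := by group
            _ = _ := by rw [e']; group
      choose n hn using hex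
      have hcomm : ∀ τ ∈ h.TT, ∀ v : G, v * x * v⁻¹ * x⁻¹ ∈ h.TT →
          (τ * v) * x * (τ * v)⁻¹ * x⁻¹ = v * x * v⁻¹ * x⁻¹ := by
        intro τ hτ v hv
        calc (τ * v) * x * (τ * v)⁻¹ * x⁻¹ = τ * ((v * x * v⁻¹ * x⁻¹) * x) * τ⁻¹ * x⁻¹ := by group
          _ = _ := by
            rw [conj_eq_iff_commute.mpr ((h.commute_TS hτ hv).mul_right
              (mem_cent.mp (h.TT_le_CC hτ)))]; group
      have hu : ∀ γ : ↥(Q ⊓ CC x), u (some γ) * x * (u (some γ))⁻¹ * x⁻¹ =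
          γ * (x' * x * x'⁻¹ * x⁻¹) * (γ : G)⁻¹ := by
        intro γ
        have h1 := conj_eq_iff_commute.mpr (mem_cent.mp γ.2.2)
        show (γ * x' * (γ : G)⁻¹) * x * (γ * x' * (γ : G)⁻¹)⁻¹ * x⁻¹ = _
        calc (γ * x' * (γ : G)⁻¹) * x * (γ * x' * (γ : G)⁻¹)⁻¹ * x⁻¹
            = (γ * x' * (γ : G)⁻¹) * (γ * x * (γ : G)⁻¹) * (γ * x' * (γ : G)⁻¹)⁻¹ *
              (γ * x * (γ : G)⁻¹)⁻¹ := by rw [h1]
          _ = _ := by group
      have hu0 : u none * x * (u none)⁻¹ * x⁻¹ = 1 := by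
        show x * x * x⁻¹ * x⁻¹ = 1
        group
      have huT : ∀ o, u o * x * (u o)⁻¹ * x⁻¹ ∈ h.TT := by
        rintro (_ | γ)
        · rw [hu0]; exact one_mem _
        · rw [hu]; exact h.conj_mem_TT γ.2.2 hτ'
      have hinj : Function.Injective
          fun q => (QuotientGroup.mk (n q) : N1 ⧸ (CC x).subgroupOf N1) := by
        rintro ⟨τ, o⟩ ⟨τ', o'⟩ e'
        have h0 : (n (τ, o))⁻¹ * n (τ', o') ∈ (CC x).subgroupOf N1 := QuotientGroup.eq.mp e'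
        have h0' : (n (τ, o) : G)⁻¹ * n (τ', o') ∈ CC x := Subgroup.mem_subgroupOf.mp h0
        have h1 := conj_eq_iff_commute.mpr (mem_cent.mp h0')
        have h2 : (τ : G) * u o = τ' * u o' := by
          have e1 : (n (τ, o) : G) * x * (n (τ, o) : G)⁻¹ = τ * u o := hn (τ, o)
          have e2 : (n (τ', o') : G) * x * (n (τ', o') : G)⁻¹ = τ' * u o' := hn (τ', o')
          rw [← e1, ← e2]
          generalize (n (τ, o) : G) = n1 at h1
          generalize (n (τ', o') : G) = n2 at h1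
          calc n1 * x * n1⁻¹ = n1 * (n1⁻¹ * n2 * x * (n1⁻¹ * n2)⁻¹) * n1⁻¹ := by rw [h1]
            _ = _ := by group
        have h3 := hcomm _ τ.2 _ (huT o)
        rw [h2, hcomm _ τ'.2 _ (huT o')] at h3
        have h4 : o = o' := by
          rcases o with _ | γ <;> rcases o' with _ | γ'
          · rfl
          · rw [hu, hu0] at h3; exact absurd h3 (conj_ne_one hτ'1 _)
          · rw [hu, hu0] at h3; exact absurd h3.symm (conj_ne_one hτ'1 _)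
          · rw [hu, hu] at h3
            have h5 : (γ : G)⁻¹ * γ' = 1 := by
              apply h.eq_one_of_commute_TS (mul_mem (inv_mem γ.2.1) γ'.2.1) hτ' hτ'1
              rw [← conj_eq_iff_commute]
              calc (γ : G)⁻¹ * γ' * (x' * x * x'⁻¹ * x⁻¹) * ((γ : G)⁻¹ * γ')⁻¹
                  = (γ : G)⁻¹ * (γ' * (x' * x * x'⁻¹ * x⁻¹) * (γ' : G)⁻¹) * γ := by group
                _ = _ := by rw [h3]; group
            rw [Subtype.ext (inv_mul_eq_one.mp h5)]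
        subst h4
        rw [Subtype.ext (mul_right_cancel h2)]
      have := Nat.card_le_card_of_injective _ hinj
      rwa [Nat.card_prod, Finite.card_option, hT, hc] at this
    have hup : j * (p - 1) + (p + 1) ≤ p ^ 3 := by
      have hyR : (s * g * s⁻¹)⁻¹ * g ∈ R1 :=
        mul_mem (inv_mem (conj_mem_of_mem_normalizer (hCN1 h.s_mem_CC).1 hg)) hg
      have hyT : (s * g * s⁻¹)⁻¹ * g ∉ h.TT := by
        intro hy
        have h1 := conj_eq_iff_commute.mpr (mem_cent.mp (h.TT_le_CC hy))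
        have h2 := conj_eq_iff_commute.mpr (mem_cent.mp h.s_mem_CC)
        have h3 := h.s_conj_of_mem_TS hτ0
        apply h.mul_self_ne_one_of_mem_TS hτ0 hτ01
        rw [mul_eq_one_iff_eq_inv, ← h3]
        calc g * x * g⁻¹ * x⁻¹ = s * g * s⁻¹ * ((s * g * s⁻¹)⁻¹ * g * x * ((s * g * s⁻¹)⁻¹ * g)⁻¹) *
              (s * g * s⁻¹)⁻¹ * x⁻¹ := by group
          _ = s * g * s⁻¹ * (s * x * s⁻¹) * (s * g * s⁻¹)⁻¹ * (s * x * s⁻¹)⁻¹ := by rw [h1, h2]
          _ = s * (g * x * g⁻¹ * x⁻¹) * s⁻¹ := by group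
          _ = _ := by rw [h.s_inv]
      have hyN : ¬ NR ((s * g * s⁻¹)⁻¹ * g) := by
        apply h.not_NR_of_inverted
        · calc s * ((s * g * s⁻¹)⁻¹ * g) * s = (s * s) * g⁻¹ * s⁻¹ * g * s := by group
            _ = g⁻¹ * s * g * s⁻¹ := by rw [h.ss, h.s_inv, one_mul]
            _ = _ := by group
        · intro e'
          apply hyT
          rw [eq_one_of_odd_of_mul_self (odd_orderOf_of_mem (by rw [hR1]; exact h.odd_p.pow) hyR) e']
          exact one_mem _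
      have hsub : DN x N1 ⊆ (R1 : Set G) \ insert ((s * g * s⁻¹)⁻¹ * g) h.TT := by
        intro ρ hρ
        obtain ⟨h1, h2⟩ := h.NR_of_mem_DN hρ
        refine ⟨?_, ?_⟩
        · obtain ⟨n, hn, y, hy, -, rfl⟩ := hρ
          exact conj_mem_of_mem_normalizer hn.1 (hRR1 (h.PP_le_RR hy))
        · rintro (e' | h3)
          · exact hyN (e' ▸ h1)
          · exact h.not_mem_TT_of_NR h1 h2 h3
      have h1 := Set.ncard_le_ncard hsub
      have hs2 : insert ((s * g * s⁻¹)⁻¹ * g) (h.TT : Set G) ⊆ R1 := Set.insert_subset hyR hTR1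
      have h2 := Set.ncard_le_ncard hs2
      rw [h.ncard_DN, Set.ncard_sdiff hs2] at h1
      rw [Set.ncard_insert_of_notMem hyT, ← Nat.card_coe_set_eq, ← Nat.card_coe_set_eq] at h1 h2
      have h3 : Nat.card (R1 : Set G) = p ^ 3 := hR1
      have h4 : Nat.card (h.TT : Set G) = p := hT
      rw [h3, h4] at h1 h2
      exact (Nat.le_sub_iff_add_le h2).mp h1
    have hpj : p ∣ j := by
      by_contra hnd
      have h1 : p ^ 3 ∣ Nat.card (CC x) * j := hN1c ▸ hR1 ▸ Subgroup.card_dvd_of_le hR1N1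
      exact hC ((Nat.Coprime.pow_left 3 ((Nat.Prime.coprime_iff_not_dvd hp).mpr hnd)).dvd_of_dvd_mul_right
        h1)
    obtain ⟨j', hj'⟩ := hpj
    have hj1 : p ≤ j' := by
      rw [hj'] at hlow; exact Nat.le_of_mul_le_mul_left hlow hp.pos
    have hj2 : j' ≤ p := by
      by_contra hlt
      obtain ⟨q, rfl⟩ : ∃ q, p = q + 1 := ⟨p - 1, by omega⟩
      rw [hj', Nat.add_sub_cancel] at hup
      have : (q + 1) * (q + 2) * q ≤ (q + 1) * j' * q :=
        Nat.mul_le_mul_right _ (Nat.mul_le_mul_left _ (by omega))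
      nlinarith
    have h1 : p ^ (1 + 1 + 2) ∣ Nat.card G := by
      refine Dvd.dvd.trans ?_ (Subgroup.card_subgroup_dvd_card N1)
      rw [hN1c, hj', le_antisymm hj2 hj1, pow_add, pow_two p]
      exact Nat.mul_dvd_mul_right (pow_two p ▸ hRC) _
    have := hndvd _ h1
    omega
  have hD : ∀ b, b * x * b⁻¹ ∈ R1 → b * x * b⁻¹ * x⁻¹ ∈ h.TT := by
    intro b hb
    obtain ⟨τ, hτ, y, hy, e'⟩ := h.exists_of_mem_RR (hC' b hb)
    have hy1 : y ≠ 1 := by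
      intro e2
      rw [e2, mul_one] at e'
      exact h.not_mem_TT_of_NR ((h.NR_of_mem_PP (Subgroup.mem_zpowers x)).conj b)
        (conj_ne_one h.x_ne_one b) (e' ▸ hτ)
    obtain ⟨k, hk⟩ := h.exists_pow_eq hy hy1
    obtain ⟨ρ, -, e2⟩ := hsurj _ (pow_mem hτ k)
    have e3 : (ρ⁻¹ * b) * x ^ k * (ρ⁻¹ * b)⁻¹ = x := by
      calc (ρ⁻¹ * b) * x ^ k * (ρ⁻¹ * b)⁻¹ = ρ⁻¹ * (b * x * b⁻¹) ^ k * ρ := by rw [conj_pow]; group
        _ = x := by rw [e', h.mul_pow_TS hτ hy, hk, ← e2]; group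
    have h1 := h.commute_of_conj_mem_PP' (pow_mem (Subgroup.mem_zpowers x) k)
      (fun e4 => h.x_ne_one (by rw [← e3, e4]; group)) (g := ρ⁻¹ * b)
      (by rw [e3]; exact Subgroup.mem_zpowers x)
    have e4 : b * x * b⁻¹ = τ ^ k * x := by
      rw [← e2]
      conv_rhs => rw [← conj_eq_iff_commute.mpr h1]
      group
    rw [e4, mul_inv_cancel_right]
    exact pow_mem hτ k
  refine Cfsg.Agent.S1241.result (p := p) R1 h.TT hTR1 hTn hab ?_ x hxR1
    (h.not_mem_TT_of_NR (h.NR_of_mem_PP (Subgroup.mem_zpowers x)) h.x_ne_one)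
    ⟨1, by rw [h.ord, pow_one]⟩ ?_ (by rw [h.perfect]; trivial)
  · have h1 := R1.card_mul_index
    rw [hR1, hG] at h1
    rw [Nat.eq_of_mul_eq_mul_left (pow_pos hp.pos _) h1]
    exact (Nat.Prime.coprime_iff_not_dvd hp).mpr hpe
  · intro m b hb
    by_cases hy1 : x ^ m = 1
    · rw [hy1]; simp
    obtain ⟨k, hk⟩ := h.exists_pow_eq ⟨m, rfl⟩ hy1
    have h1 := pow_mem hb k
    rw [conj_pow, hk] at h1
    have h2 := hD b h1
    have h3 : b * x ^ m * b⁻¹ = (b * x * b⁻¹ * x⁻¹) ^ m * x ^ m := by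
      rw [← (mem_cent.mp (h.TT_le_CC h2)).mul_zpow, inv_mul_cancel_right, conj_zpow]
    rw [h3, mul_inv_cancel_right]
    exact zpow_mem h2 m

end Hyp

end CL.RankOneB
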