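import Cfsg.Agent.Base
import Cfsg.Agent.RankOneB.CaseA
import Cfsg.Agent.RankOne.Ind

/-!
# The first case of Suzuki's theorem: `p = 3` and `Q` is non-abelian of order `8³`
-/

set_option autoImplicit false
set_option linter.unusedSectionVars false
set_option linter.style.haveILetI false

namespace CL.RankOneB

open Cfsg MulAction CL.RankOne

variable {G Ω : Type*} [Group G] [MulAction G Ω]

theorem arith_three {g m : ℕ} (hg : g = 2 ∨ g = 4 ∨ g = 8) (hm : m ≠ 0) (h3 : g + 1 ∣ 3 ^ m)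
    (h4 : 3 ^ m ≤ (g + 1) ^ 3) (h5 : g ∣ 3 ^ m - 1) (h6 : g ≠ 3 ^ m - 1)
    (h7 : (3 ^ m - 1) ^ 3 ≡ 1 [MOD 7]) : 3 ^ m - 1 = 8 ∧ g = 2 := by
  have hm6 : m ≤ 6 := by
    have : (g + 1) ^ 3 ≤ 3 ^ 6 := by rcases hg with rfl | rfl | rfl <;> norm_num
    exact (Nat.pow_le_pow_iff_right (by norm_num)).mp (h4.trans this)
  revert h3 h4 h5 h6 h7 hm
  rcases hg with rfl | rfl | rfl <;> interval_cases m <;> decide

theorem arith_five {g m : ℕ} (hg : g = 2 ∨ g = 4 ∨ g = 8) (hm : m ≠ 0) (h3 : g + 1 ∣ 5 ^ m)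
    (h4 : 5 ^ m ≤ (g + 1) ^ 5) (h6 : g ≠ 5 ^ m - 1)
    (h7 : (5 ^ m - 1) ^ 5 ≡ 1 [MOD 31]) (h8 : 5 ^ m - 1 ≠ 624) : False := by
  have hm6 : m ≤ 7 := by
    have : (g + 1) ^ 5 ≤ 5 ^ 7 := by rcases hg with rfl | rfl | rfl <;> norm_num
    exact (Nat.pow_le_pow_iff_right (by norm_num)).mp (h4.trans this)
  revert h3 h4 h6 h7 h8 hm
  rcases hg with rfl | rfl | rfl <;> interval_cases m <;> decide

variable {a : Ω} {t : G} {Q : Subgroup G} {s r x : G} {p : ℕ}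

namespace Hyp

variable (h : Hyp a t Q s r x p) [Finite G] [FaithfulSMul G Ω]
include h

theorem card_TT_inf {w : G} (hw : w ∈ VV a t) :
    Nat.card ↥(h.TT ⊓ CC w) = Nat.card ↥(Q ⊓ CC w ⊓ CC x) + 1 := by
  rw [← Finite.card_option]
  symm
  have hz : s * t ∈ CC w := mem_cent.mpr (h.commute_V_z hw).symm
  refine Nat.card_congr (Equiv.ofBijective (fun o => match o with
    | none => ⟨1, one_mem _⟩
    | some γ => ⟨γ * (s * t) * (γ : G)⁻¹, Or.inr ⟨γ, ⟨γ.2.1.1, γ.2.2⟩, rfl⟩,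
        (CC w).mul_mem ((CC w).mul_mem γ.2.1.2 hz) ((CC w).inv_mem γ.2.1.2)⟩) ⟨?_, ?_⟩)
  · rintro (_ | γ) (_ | γ') e
    · rfl
    · exact absurd (congrArg Subtype.val e).symm (conj_ne_one h.z_ne_one _)
    · exact absurd (congrArg Subtype.val e) (conj_ne_one h.z_ne_one _)
    · have e' : (γ : G) * (s * t) * (γ : G)⁻¹ = γ' * (s * t) * (γ' : G)⁻¹ := congrArg Subtype.val e
      rw [Subtype.ext (h.eq_of_conj_z_smul_eq γ.2.1.1 γ'.2.1.1 (by rw [e']))]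
  · rintro ⟨τ, rfl | ⟨γ, hγ, rfl⟩, hτ⟩
    · exact ⟨none, rfl⟩
    · refine ⟨some ⟨γ, ⟨hγ.1, mem_cent.mpr ?_⟩, hγ.2⟩, rfl⟩
      rw [Commute.symm_iff, ← conj_eq_iff_commute]
      apply h.eq_of_conj_z_smul_eq (conj_mem_Q h.setup hw.1.1 hγ.1) hγ.1
      congr 1
      calc w * γ * w⁻¹ * (s * t) * (w * γ * w⁻¹)⁻¹
          = w * γ * w⁻¹ * (w * (s * t) * w⁻¹) * (w * γ * w⁻¹)⁻¹ := by
            rw [conj_eq_iff_commute.mpr (h.commute_V_z hw)]
        _ = w * (γ * (s * t) * γ⁻¹) * w⁻¹ := by group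
        _ = _ := conj_eq_iff_commute.mpr (mem_cent.mp hτ).symm

theorem dvd_fifteen (hr : r ^ 4 = 1) : p ∣ 15 := by
  haveI := Fact.mk h.prime
  have h1 : r⁻¹ * (s * t) * r = (s * t) ^ 2 := by
    calc r⁻¹ * (s * t) * r = (r⁻¹ * s) * t * r := by group
      _ = s * (r⁻¹ * t * r) := by rw [← (h.commute_s_Q (inv_mem h.r_mem)).eq]; group
      _ = _ := by rw [← h.struct, pow_two]; group
  have h2 : ∀ k : ℕ, (r ^ k)⁻¹ * (s * t) * r ^ k = (s * t) ^ 2 ^ k := by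
    intro k
    induction k with
    | zero => simp
    | succ k ih =>
      calc (r ^ (k + 1))⁻¹ * (s * t) * r ^ (k + 1)
          = r⁻¹ * ((r ^ k)⁻¹ * (s * t) * r ^ k) * r⁻¹⁻¹ := by group
        _ = (r⁻¹ * (s * t) * r⁻¹⁻¹) ^ 2 ^ k := by rw [ih, conj_pow]
        _ = _ := by rw [inv_inv, h1, ← pow_mul, pow_succ']
  have h3 := h2 4
  rw [hr, inv_one, one_mul, mul_one] at h3
  have h4 : (s * t) ^ 15 = 1 := by
    have : (s * t) ^ 15 * (s * t) = 1 * (s * t) := by rw [← pow_succ, one_mul]; exact h3.symm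
    exact mul_right_cancel this
  rw [← orderOf_eq_prime (h.pow_of_mem_TS z_mem_TS) h.z_ne_one]
  exact orderOf_dvd_of_pow_eq_one h4

theorem card_Gam_ne {w : G} (hwa : w • a = a) (hwx : w ∈ CC x) (hw5 : w ^ 5 = 1)
    (h4 : ∀ g ∈ Q ⊓ CC w, g ^ 4 = 1) : Nat.card ↥(Q ⊓ CC x) ≠ 624 := by
  intro hc
  haveI : Fact (Nat.Prime 13) := ⟨by norm_num⟩
  haveI := h.nilpotent_Q
  haveI : Group.IsNilpotent ↥(Q ⊓ CC x) :=
    Group.nilpotent_of_mulEquiv (Subgroup.subgroupOfEquivOfLe (inf_le_left : Q ⊓ CC x ≤ Q))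
  obtain ⟨S⟩ := (inferInstance : Nonempty (Sylow 13 ↥(Q ⊓ CC x)))
  haveI : (S : Subgroup ↥(Q ⊓ CC x)).Normal :=
    S.normal_of_normalizerCondition Group.normalizerCondition_of_isNilpotent
  have hch := S.characteristic_of_normal inferInstance
  have hS : Nat.card S = 13 := by
    rw [S.card_eq_multiplicity, hc, show 624 = 13 ^ 1 * 48 by norm_num,
      Nat.factorization_mul_apply_of_coprime (by norm_num), Nat.Prime.factorization_pow Fact.out,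
      Nat.factorization_eq_zero_of_not_dvd (by norm_num)]
    simp
  have hn : ∀ g ∈ Q ⊓ CC x, w * g * w⁻¹ ∈ Q ⊓ CC x := fun g hg =>
    ⟨conj_mem_Q h.setup hwa hg.1, (CC x).mul_mem ((CC x).mul_mem hwx hg.2) ((CC x).inv_mem hwx)⟩
  set U := (S : Subgroup ↥(Q ⊓ CC x)).map (Q ⊓ CC x).subtype with hU
  have hUc : Nat.card U = 13 := by
    rw [hU, Subgroup.card_map_of_injective (Q ⊓ CC x).subtype_injective, hS]
  have h1 := card_modEq_inf_cent (k := 1) Nat.prime_five (X := U) (y := w) (by rw [pow_one, hw5])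
    (by
      rintro _ ⟨g, hg, rfl⟩
      exact ⟨_, Subgroup.characteristic_iff_le_comap.mp hch
        ((Q ⊓ CC x).normalizerMonoidHom ⟨w, mem_normalizer_of_conj hn⟩) hg, rfl⟩)
  have h2 : U ⊓ CC w = ⊥ := by
    rw [eq_bot_iff]
    intro u hu
    have h3 := pow_card_eq_one' (x := (⟨u, hu.1⟩ : U))
    rw [hUc] at h3
    have h5 : u ^ 13 = 1 := congrArg Subtype.val h3
    have h6 := h4 u ⟨(Subgroup.map_subtype_le _ hu.1).1, hu.2⟩
    rw [show 13 = 4 * 3 + 1 by norm_num, pow_succ, pow_mul, h6, one_pow, one_mul] at h5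
    exact h5
  rw [h2, hUc, Subgroup.card_bot] at h1
  exact absurd h1 (by decide)

theorem caseB_card (hloc : Loc a t Q) {w : G} (hw : w ∈ WW a t) (hwx : w ∈ CC x) (hw1 : w ≠ 1)
    (hwp : w ^ p = 1) :
    p = 3 ∧ Nat.card ↥(Q ⊓ CC x) = 8 ∧ Nat.card ↥(Q ⊓ CC w ⊓ CC x) = 2 := by
  have hQ0 : Q0 G a ⊓ CC w = Q0 G a :=
    inf_eq_left.mpr fun u hu => mem_cent.mpr (commute_of_mem_WW h.setup hu hw)
  have hcon := hloc {w} (by simpa using hw.1) ⟨w, rfl, hw1⟩ (by rw [hQ0]; exact h.two_lt)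
  have hp15 := h.dvd_fifteen (hcon.pow_four r ⟨h.r_mem, mem_cent.mpr (h.commute_V_r hw.1).symm⟩)
  have h1 := h.card_inf_cent_eq hw (mem_cent.mp hwx)
  have hinj := Nat.pow_left_injective h.prime.ne_zero
  have hg0 : Nat.card ↥(Q ⊓ CC w ⊓ CC x) = 2 ∨ Nat.card ↥(Q ⊓ CC w ⊓ CC x) = 4 ∨
      Nat.card ↥(Q ⊓ CC w ⊓ CC x) = 8 := by
    rcases hcon.cases with e | ⟨e, -⟩ | ⟨e, -⟩
    · left
      apply hinj
      show _ ^ p = 2 ^ p
      rw [← h1, e, hQ0, h.card_Q0_eq]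
    · right; left
      apply hinj
      show _ ^ p = 4 ^ p
      rw [← h1, e, hQ0, h.card_Q0_eq, ← pow_mul, mul_comm, pow_mul]; rfl
    · right; right
      apply hinj
      show _ ^ p = 8 ^ p
      rw [← h1, e, hQ0, h.card_Q0_eq, ← pow_mul, mul_comm, pow_mul]; rfl
  obtain ⟨m, hm, hc⟩ := h.exists_card_Gam
  have h2 := h.card_TT_inf hw.1
  have h3 : Nat.card ↥(Q ⊓ CC w ⊓ CC x) + 1 ∣ p ^ m := by
    rw [← h2, ← hc, ← h.card_TT]; exact Subgroup.card_dvd_of_le inf_le_left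
  have h4 : p ^ m ≤ (Nat.card ↥(Q ⊓ CC w ⊓ CC x) + 1) ^ p := by
    rw [← h2, ← hc, ← h.card_TT]
    exact card_le_pow_card_inf_cent h.prime (fun _ ha _ hb => h.commute_TS ha hb)
      (fun _ => h.pow_of_mem_TS) hwp (fun _ => h.conj_mem_TT hwx)
  have hle : Q ⊓ CC w ⊓ CC x ≤ Q ⊓ CC x := fun g hg => ⟨hg.1.1, hg.2⟩
  have h5 := Subgroup.card_dvd_of_le hle
  have h6 : Nat.card ↥(Q ⊓ CC w ⊓ CC x) ≠ Nat.card ↥(Q ⊓ CC x) := by
    intro e
    apply hw1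
    apply h.eq_one_of_commute_Gam hw (mem_cent.mp hwx)
    intro g hg
    rw [← Subgroup.eq_of_le_of_card_ge hle e.ge] at hg
    exact mem_cent.mp hg.1.2
  have h7 := h.card_modEq_one le_rfl (fun _ hk _ hg => conj_mem_Q h.setup hk.1.1 hg)
  rw [h.card_Q_eq] at h7
  have h8 := h.card_KS_add_one
  have h9 : p = 5 → Nat.card ↥(Q ⊓ CC x) ≠ 624 := fun e =>
    h.card_Gam_ne hw.1.1.1 hwx (e ▸ hwp) hcon.pow_four
  have hp35 : p = 3 ∨ p = 5 := by
    rcases (Nat.Prime.dvd_mul h.prime (m := 3) (n := 5)).mp hp15 with e | e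
    · exact Or.inl ((Nat.prime_dvd_prime_iff_eq h.prime Nat.prime_three).mp e)
    · exact Or.inr ((Nat.prime_dvd_prime_iff_eq h.prime Nat.prime_five).mp e)
  generalize Nat.card ↥(Q ⊓ CC w ⊓ CC x) = g0 at *
  generalize Nat.card ↥(Q ⊓ CC x) = g at *
  generalize Nat.card (KS a t) = k at *
  clear h1 h2 hcon hinj
  rcases hp35 with rfl | rfl
  · obtain rfl : k = 7 := by omega
    obtain rfl : g = 3 ^ m - 1 := by omega
    exact ⟨rfl, arith_three hg0 hm h3 h4 h5 h6 h7⟩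
  · obtain rfl : k = 31 := by omega
    obtain rfl : g = 5 ^ m - 1 := by omega
    exact (arith_five hg0 hm h3 h4 h6 h7 (h9 rfl)).elim

theorem caseB (hloc : Loc a t Q) :
    IsPGroup 2 Q ∧ NonAb Q := by
  have hS := h.setup
  have hσ : p ∣ Nat.card ↥(WW a t ⊓ CC x) := by
    by_contra hσ; exact h.caseA hσ
  haveI := Fact.mk h.prime
  obtain ⟨⟨w, hw'⟩, ho⟩ := exists_prime_orderOf_dvd_card' p hσ
  rw [Subgroup.orderOf_mk] at ho
  obtain ⟨hw, hwx⟩ := Subgroup.mem_inf.mp hw'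
  have hw1 : w ≠ 1 := by
    intro e
    rw [e, orderOf_one] at ho
    exact h.prime.one_lt.ne ho
  have hwp : w ^ p = 1 := by rw [← ho]; exact pow_orderOf_eq_one w
  obtain ⟨rfl, h8, h2⟩ := h.caseB_card hloc hw hwx hw1 hwp
  have hQ : Nat.card Q = 8 ^ 3 := by rw [h.card_Q_eq, h8]
  have hws := h.commute_V_s hw.1
  have hΓ0 : ∀ g ∈ Q ⊓ CC x, Commute g w → g = 1 ∨ g = s := by
    intro g hg hgw
    obtain ⟨y, -, hy⟩ := (Nat.card_eq_two_iff' (1 : ↥(Q ⊓ CC w ⊓ CC x))).mp h2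
    by_cases h1 : g = 1
    · exact Or.inl h1
    · exact Or.inr (congrArg Subtype.val ((hy ⟨g, ⟨hg.1, mem_cent.mpr hgw⟩, hg.2⟩
        fun e => h1 (congrArg Subtype.val e)).trans (hy ⟨s, ⟨h.s_mem_Q, mem_cent.mpr hws.symm⟩,
          h.s_mem_CC⟩ fun e => h.s_ne_one (congrArg Subtype.val e)).symm))
  have hinv : ∀ g ∈ Q ⊓ CC x, g * g = 1 → g = 1 ∨ g = s := fun g hg e =>
    h.rank1 g ((mem_Q0_iff hS).mpr ⟨hg.1, e⟩) (mem_cent.mp hg.2)
  have hn : ∀ g ∈ Q ⊓ CC x, w * g * w⁻¹ ∈ Q ⊓ CC x := fun g hg =>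
    ⟨conj_mem_Q hS hw.1.1.1 hg.1, (CC x).mul_mem ((CC x).mul_mem hwx hg.2) ((CC x).inv_mem hwx)⟩
  obtain ⟨γ, hγ, hγw⟩ : ∃ γ ∈ Q ⊓ CC x, ¬ Commute γ w := by
    by_contra hcon
    push Not at hcon
    exact hw1 (h.eq_one_of_commute_Gam hw (mem_cent.mp hwx) hcon)
  refine ⟨IsPGroup.of_card (n := 9) (by rw [hQ]; norm_num), ?_⟩
  · by_contra hna
    have hcomm : ∀ g ∈ Q, ∀ g' ∈ Q, Commute g g' := by
      intro g hg g' hg'
      by_contra hc
      exact hna ⟨g, hg, g', hg', hc⟩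
    have h1 : γ * γ ≠ 1 := by
      intro e
      rcases hinv γ hγ e with e | e
      · exact hγw (e ▸ Commute.one_left w)
      · exact hγw (e ▸ hws.symm)
    obtain ⟨δ, hδ, e⟩ : ∃ δ ∈ Q ⊓ CC x, δ * δ = s := by
      by_cases h4 : γ * γ * (γ * γ) = 1
      · exact ⟨γ, hγ, (hinv _ (mul_mem hγ hγ) h4).resolve_left h1⟩
      · refine ⟨γ * γ, mul_mem hγ hγ, (hinv _ (mul_mem (mul_mem hγ hγ) (mul_mem hγ hγ)) ?_).resolve_left
          h4⟩
        have h5 := pow_card_eq_one' (x := (⟨γ, hγ⟩ : ↥(Q ⊓ CC x)))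
        rw [h8] at h5
        have h6 : γ ^ 8 = 1 := congrArg Subtype.val h5
        rw [← h6]; simp only [pow_succ, pow_zero, one_mul, mul_assoc]
    have h3 : w * δ * w⁻¹ * δ⁻¹ * (w * δ * w⁻¹ * δ⁻¹) = 1 := by
      calc w * δ * w⁻¹ * δ⁻¹ * (w * δ * w⁻¹ * δ⁻¹)
          = w * δ * w⁻¹ * (δ⁻¹ * (w * δ * w⁻¹)) * δ⁻¹ := by group
        _ = w * (δ * δ) * w⁻¹ * (δ * δ)⁻¹ := by
          rw [(hcomm _ (inv_mem hδ.1) _ (hn δ hδ).1).eq]; group
        _ = 1 := by rw [e, conj_eq_iff_commute.mpr hws, mul_inv_cancel]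
    have h4 : Commute w δ := by
      rcases hinv _ (mul_mem (hn δ hδ) (inv_mem hδ)) h3 with e' | e'
      · exact conj_eq_iff_commute.mp (mul_inv_eq_one.mp e')
      · apply commute_of_sq_commute_of_odd (odd_orderOf_of_mem_DD hS hw.1.1)
        rw [mul_inv_eq_iff_eq_mul] at e'
        rw [← conj_eq_iff_commute]
        calc w * w * δ * (w * w)⁻¹ = w * (w * δ * w⁻¹) * w⁻¹ := by group
          _ = w * (s * δ) * w⁻¹ := by rw [e']
          _ = (w * s * w⁻¹) * (w * δ * w⁻¹) := by group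
          _ = δ := by rw [conj_eq_iff_commute.mpr hws, e', ← mul_assoc, h.ss, one_mul]
    apply h.s_ne_one
    rcases hΓ0 δ hδ h4.symm with e' | e'
    · rw [← e, e', one_mul]
    · rw [← e, e', h.ss]

end Hyp

end CL.RankOneB
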