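import Cfsg.Agent.Base
import Cfsg.Agent.RankOne.Ind
import Cfsg.Agent.RankOneB.CaseB
import Cfsg.Agent.S0205

/-!
# The first case (Peterfalvi, Part II, Chapter II; interface, owner helper37)
-/

set_option autoImplicit false
set_option linter.unusedSectionVars false

namespace CL.RankOne

open Cfsg MulAction

variable {G Ω : Type*} [Group G] [MulAction G Ω] {a : Ω} {t : G} {Q : Subgroup G}

/-- Theorem B: if `G` is simple and some element of prime order of `V` has a centraliser of 2-rank
one, then `Q` is a 2-group which is non-abelian or equal to `Q₀`. -/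
theorem thmB (hS : IsRankOneSetup G Ω a t Q) [Finite G] [FaithfulSMul G Ω] [IsSimpleGroup G]
    (hq : 2 < Nat.card (Q0 G a)) (hloc : Loc a t Q) {x : G} (hx : x ∈ VV a t)
    (hp : (orderOf x).Prime) (h1 : ¬ 2 < Nat.card ↥(Q0 G a ⊓ Subgroup.centralizer {x})) :
    Good a Q := by
  obtain ⟨s, hs, r, hr, e⟩ := exists_structure_eq hS
  have hsx : s ∈ Q0 G a ⊓ Subgroup.centralizer {x} := ⟨mem_Q0_of_mem_II hs,
    RankOneB.mem_cent.mpr (commute_of_mem_VV hS hs hr e hx).1.symm⟩
  have h : RankOneB.Hyp a t Q s r x (orderOf x) :=
    { setup := hS, s_mem := hs, r_mem := hr, struct := e, x_mem := hx, prime := hp, ord := rfl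
      two_lt := hq
      rank1 := fun u hu hux => by
        by_contra hcon
        push Not at hcon
        apply h1
        have := Fintype.ofFinite ↥(Q0 G a ⊓ Subgroup.centralizer {x})
        rw [Nat.card_eq_fintype_card, Fintype.two_lt_card_iff]
        exact ⟨1, ⟨s, hsx⟩, ⟨u, hu, RankOneB.mem_cent.mpr hux⟩,
          fun h => hs.2.1 (congrArg Subtype.val h).symm,
          fun h => hcon.1 (congrArg Subtype.val h).symm,
          fun h => hcon.2 (congrArg Subtype.val h).symm⟩
      perfect := by
        refine (IsSimpleGroup.eq_bot_or_eq_top_of_normal (commutator G) inferInstance).resolve_left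
          fun hb => ta_ne hS (smul_eq_of_commute_invol hS hs.2.1 hs.2.2 ?_ hs.1)
        rw [← commutatorElement_eq_one_iff_commute, ← Subgroup.mem_bot, ← hb]
        exact Subgroup.commutator_mem_commutator trivial trivial
      solv := fun N hN => Cfsg.Agent.S0205.result hN }
  exact ⟨(h.caseB hloc).1, Or.inr (h.caseB hloc).2⟩

end CL.RankOne
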